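import Cfsg.Agent.H327.COV.Num
import Cfsg.Agent.H970.Om7.Main
import Cfsg.Agent.LieClassical.OmegaReindex

/-!
# Elements of `Ω₇(q)` (S2499)
-/

set_option autoImplicit false

namespace Cfsg.Agent.H327.COV

open QuadraticMap Module
open Cfsg.Agent.LieClassical.OrthCore Cfsg.Agent.LieClassical.OrthForms Cfsg.Agent.LieClassical.OmegaReindex
open Cfsg.Agent.H160.QSpin Cfsg.Agent.H160.QDisc Cfsg.Agent.H160.QSplit
  Cfsg.Agent.H160.QSemi Cfsg.Agent.H160.QReal Cfsg.Agent.H160.QModel Cfsg.Agent.H160.QFinal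
open Cfsg.Agent.H970.Om7 (range_seven of_rz pm)

variable {F : Type} [Field F] [Fintype F]

/-- an element of order `(q³ + 1) / 2` -/
theorem exists_A (h2 : (2 : F) ≠ 0) (hodd : Odd (Fintype.card F)) :
    ∃ g : Cfsg.POmega F ⇑(quadOdd 3 F), orderOf g = (Fintype.card F ^ 3 + 1) / 2 := by
  classical
  rw [coe_quadOdd]
  obtain ⟨c, s, hc, -, hs⟩ := rz_nonsplit (F := F) h2 (d := 3) (by norm_num)
  rw [half_eq hodd] at hs
  refine of_rz h2 hs ?_ hc (n₂ := 1) (by norm_num) one_ne_zero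
  have h3 : 1 ≤ Fintype.card F ^ 3 := Nat.one_le_pow _ _ Fintype.card_pos
  omega

/-- an element of order `(q³ - 1) / 2` -/
theorem exists_C (h2 : (2 : F) ≠ 0) (hodd : Odd (Fintype.card F)) (h3 : 3 ≤ Fintype.card F) :
    ∃ g : Cfsg.POmega F ⇑(quadOdd 3 F), orderOf g = (Fintype.card F ^ 3 - 1) / 2 := by
  classical
  rw [coe_quadOdd]
  obtain ⟨s, hs⟩ := rz_split (F := F) (d := 3) (by norm_num)
  rw [half_eq' hodd] at hs
  refine of_rz h2 hs ?_ ?_ (n₂ := 1) (by norm_num) one_ne_zero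
  · have h4 : 3 ^ 3 ≤ Fintype.card F ^ 3 := Nat.pow_le_pow_left h3 3
    omega
  · rcases pm (F := F) with h | h <;> rw [h] <;> norm_num

/-- an element of order `p (q² + 1) / 2` -/
theorem exists_B {p f : ℕ} (hp : p.Prime) (hp2 : p ≠ 2) (hf : 1 ≤ f) [CharP F p] (hF : Fintype.card F = p ^ f)
    (h2 : (2 : F) ≠ 0) (hodd : Odd (Fintype.card F)) :
    ∃ g : Cfsg.POmega F ⇑(quadOdd 3 F), orderOf g = p * ((Fintype.card F ^ 2 + 1) / 2) := by
  classical
  have hpf := Fact.mk hp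
  rw [coe_quadOdd]
  obtain ⟨c, s, hc, -, hs⟩ := rz_nonsplit (F := F) h2 (d := 2) (by norm_num)
  rw [half_eq hodd] at hs
  have hN : (Fintype.card F ^ 2 + 1) / 2 ≠ 0 := by
    have h3 : 1 ≤ Fintype.card F ^ 2 := Nat.one_le_pow _ _ Fintype.card_pos
    omega
  obtain ⟨N, hNe⟩ : ∃ N, N = (Fintype.card F ^ 2 + 1) / 2 := ⟨_, rfl⟩
  have hhalf := half_eq (k := 2) hodd
  rw [← hNe] at hs hN hhalf ⊢
  have h1 : Rz F (2 * 2) c 1 N := by
    have := hs.pow (by omega) (M := N) (Dvd.intro_left 2 rfl)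
    rwa [Nat.mul_div_cancel _ (Nat.pos_of_ne_zero hN), pow_two, Int.units_mul_self] at this
  have h3 : dc (oddForm 3 F) = 1 ∨ dc (oddForm 3 F) = -1 := dc_cases (nondeg_oddForm 3 F h2)
  have hJ : Rz F 3 (c * dc (oddForm 3 F)) 1 (p ^ (0 + 1)) := rz_jordan (F := F) (p := p) h2 (n := 3) (a := 0) (by decide)
    (by norm_num) (by rcases hc with rfl | rfl <;> rcases h3 with h3 | h3 <;> rw [h3] <;> simp)
  have h4 := Rz.add h2 h1 hJ
  have h5 : c * (c * dc (oddForm 3 F)) = dc (oddForm 3 F) := by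
    rcases hc with rfl | rfl <;> ring
  have hco : Nat.Coprime N (p ^ (0 + 1)) := by
    rw [zero_add, pow_one, Nat.coprime_comm, hp.coprime_iff_not_dvd]
    intro h6
    have h7 : p ∣ Fintype.card F ^ 2 + 1 := by rw [hhalf]; exact h6.mul_left 2
    have h8 : p ∣ Fintype.card F ^ 2 := by
      rw [hF, ← pow_mul]
      exact dvd_pow_self p (by omega)
    exact hp.one_lt.ne' (Nat.dvd_one.1 ((Nat.dvd_add_right h8).1 h7))
  rw [h5, mul_one, Nat.Coprime.lcm_eq_mul hco, zero_add, pow_one, mul_comm N p] at h4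
  obtain ⟨g, hg, ho⟩ := transport_rz h2 (nondeg_oddForm 3 F h2) (by simp) h4
  exact (range_seven h2 _).2 ⟨g, hg, ho⟩

end Cfsg.Agent.H327.COV
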