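import Cfsg.Agent.H638.G2Iso
import Cfsg.Agent.S2121
import Cfsg.Agent.S2519
import Cfsg.Agent.KFacts.Co3.Syl
import Cfsg.Agent.H359.SpSix
import Cfsg.Prelude.Def_KGroupFacts

/-!
# Element orders of the residual subgroups of `Ω₇(q)` (S2499)
-/

set_option autoImplicit false

namespace Cfsg.Agent.H327.COV

open Cfsg

section Gen

variable {M : Type*} [Group M]

/-- powers of elements normalising `S` lie in `S` -/
theorem pow_mem_of_out {S : Subgroup M} [S.Normal] (hC : Subgroup.centralizer (S : Set M) = ⊥) {k : ℕ}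
    (hk : ∀ α : MulAut S, α ^ k ∈ (MulAut.conj : S →* MulAut S).range) (x : M) : x ^ k ∈ S := by
  obtain ⟨s, hs⟩ := hk (MulAut.conjNormal x)
  have h1 : (s : M)⁻¹ * x ^ k ∈ Subgroup.centralizer (S : Set M) := by
    rw [Subgroup.mem_centralizer_iff]
    intro y hy
    have h2 : MulAut.conj s ⟨y, hy⟩ = (MulAut.conjNormal (x ^ k)) ⟨y, hy⟩ := by rw [hs, map_pow]
    have h3 := congrArg Subtype.val h2
    rw [MulAut.conj_apply, MulAut.conjNormal_apply] at h3
    have h4 : (s : M) * y * (s : M)⁻¹ = x ^ k * y * (x ^ k)⁻¹ := h3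
    calc y * ((s : M)⁻¹ * x ^ k) = (s : M)⁻¹ * ((s : M) * y * (s : M)⁻¹) * x ^ k := by group
      _ = (s : M)⁻¹ * (x ^ k * y * (x ^ k)⁻¹) * x ^ k := by rw [h4]
      _ = (s : M)⁻¹ * x ^ k * y := by group
  rw [hC, Subgroup.mem_bot, inv_mul_eq_one] at h1
  rw [← h1]
  exact s.2

theorem out_congr {S T : Type*} [Group S] [Group T] (e : S ≃* T) {k : ℕ}
    (hk : ∀ α : MulAut T, α ^ k ∈ (MulAut.conj : T →* MulAut T).range) (α : MulAut S) :
    α ^ k ∈ (MulAut.conj : S →* MulAut S).range := by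
  obtain ⟨t, ht⟩ := hk (MulAut.congr e α)
  refine ⟨e.symm t, ?_⟩
  apply (MulAut.congr e).injective
  rw [map_pow, ← ht]
  ext y
  change e ((e.symm t) * (e.symm y) * (e.symm t)⁻¹) = t * y * t⁻¹
  rw [map_mul, map_mul, map_inv, e.apply_symm_apply, e.apply_symm_apply]

theorem out_pow {T : Type*} [Group T] {k : ℕ} (h : Nat.card (Out T) ∣ k) (α : MulAut T) :
    α ^ k ∈ (MulAut.conj : T →* MulAut T).range := by
  have h1 : (α : Out T) ^ k = 1 := by
    obtain ⟨c, rfl⟩ := h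
    rw [pow_mul, pow_card_eq_one', one_pow]
  have h2 : ((α ^ k : MulAut T) : Out T) = 1 := by rw [QuotientGroup.mk_pow]; exact h1
  exact (QuotientGroup.eq_one_iff _).1 h2

theorem out_chevG2 {F : Type*} [Field F] [Fintype F] {p f : ℕ} (hp : p.Prime) [CharP F p]
    (hF : Fintype.card F = p ^ f) (hq : 3 ≤ p ^ f) (α : MulAut ↥(Lie.chevG2.group F)) :
    α ^ (2 * f) ∈ (MulAut.conj : _ →* MulAut ↥(Lie.chevG2.group F)).range := by
  have := Fact.mk hp
  apply out_pow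
  rw [Cfsg.Agent.S2121.result p f hF hq]
  split_ifs
  · exact dvd_rfl
  · exact dvd_mul_left _ _

end Gen

/-- element orders of `G₂(q)` -/
theorem orders_G2 {F : Type*} [Field F] [Fintype F] {p f : ℕ} (hp : p.Prime) (hp2 : p ≠ 2) (hf : 1 ≤ f)
    (hF : Fintype.card F = p ^ f) (hq5 : 5 ≤ Fintype.card F) (x : ↥(Lie.chevG2.group F)) :
    orderOf x ∣ p * (p ^ f + 1) ∨ orderOf x ∣ p * (p ^ f - 1) ∨ orderOf x ∣ p ^ (2 * f) - 1 ∨
      orderOf x ∣ p ^ (2 * f) + p ^ f + 1 ∨ orderOf x ∣ p ^ (2 * f) - p ^ f + 1 ∨ orderOf x ∣ p ^ 2 := by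
  have h := Cfsg.Agent.S2519.result (F := F) p f hp hp2 hf hF hq5
  -- a maximal order above `orderOf x`
  have hfin : (Set.range (orderOf : ↥(Lie.chevG2.group F) → ℕ)).Finite := Set.finite_range _
  have hex : ∃ m ∈ Set.range (orderOf : ↥(Lie.chevG2.group F) → ℕ), orderOf x ∣ m ∧
      ∀ m' ∈ Set.range (orderOf : ↥(Lie.chevG2.group F) → ℕ), m ∣ m' → m' = m := by
    by_contra hcon
    push Not at hcon
    -- choose a multiple of maximal size
    obtain ⟨m, ⟨hm1, hm2⟩, hmax⟩ := Set.exists_max_image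
      {m | m ∈ Set.range (orderOf : ↥(Lie.chevG2.group F) → ℕ) ∧ orderOf x ∣ m} id
      (hfin.subset fun _ h => h.1) ⟨orderOf x, ⟨x, rfl⟩, dvd_rfl⟩
    obtain ⟨m', hm', hmm', hne⟩ := hcon m hm1 hm2
    have h3 : m' ≤ m := hmax m' ⟨hm', hm2.trans hmm'⟩
    have h4 : 0 < m' := by
      obtain ⟨y, rfl⟩ := hm'
      exact orderOf_pos y
    exact hne (le_antisymm h3 (Nat.le_of_dvd h4 hmm'))
  obtain ⟨m, hm1, hm2, hm3⟩ := hex
  have h5 : m ∈ {n : ℕ | n ∈ Set.range (orderOf : ↥(Lie.chevG2.group F) → ℕ) ∧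
      ∀ m ∈ Set.range (orderOf : ↥(Lie.chevG2.group F) → ℕ), n ∣ m → m = n} := ⟨hm1, hm3⟩
  rw [h] at h5
  rcases h5 with h5 | h5
  · simp only [Set.mem_insert_iff, Set.mem_singleton_iff] at h5
    rcases h5 with h5 | h5 | h5 | h5 | h5 <;> rw [h5] at hm2
    · exact Or.inl hm2
    · exact Or.inr (Or.inl hm2)
    · exact Or.inr (Or.inr (Or.inl hm2))
    · exact Or.inr (Or.inr (Or.inr (Or.inl hm2)))
    · exact Or.inr (Or.inr (Or.inr (Or.inr (Or.inl hm2))))
  · split_ifs at h5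
    · rw [Set.mem_singleton_iff] at h5
      rw [h5] at hm2
      exact Or.inr (Or.inr (Or.inr (Or.inr (Or.inr hm2))))
    · exact absurd h5 (Set.notMem_empty _)

/-- element orders of `Sp₆(2)` -/
theorem orders_Sp62 (x : PSp 3 (ZMod 2)) : orderOf x ∈ Cfsg.Agent.H359.Om := by
  obtain ⟨e⟩ := Cfsg.Agent.StandardComponent.SpTwoAut.exists_equiv₀
  rw [← MulEquiv.orderOf_eq e]
  exact Cfsg.Agent.H359.SpSix.sp _

end Cfsg.Agent.H327.COV
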