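import Cfsg.Agent.H327.COV.Grp
import Cfsg.Agent.H327.COV.Res
import Cfsg.Agent.H327.COV.Elt
import Cfsg.Agent.S5815

/-!
# `NoTwo (Ω₇(q))` for `q ≥ 5` (S2499)
-/

set_option autoImplicit false

namespace Cfsg.Agent.H327.COV

open QuadraticMap Module Cfsg Cfsg.Geo Cfsg.Agent.H278.Cov
open Cfsg.Agent.LieClassical.OrthCore Cfsg.Agent.LieClassical.OrthFinite Cfsg.Agent.LieClassical.OmegaReindex
open Cfsg.Agent.H858.TOrth (fix mem_fix ND)
open Cfsg.Agent.H883.Sub (perp mem_perp mem_perp' finrank_perp)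
open Cfsg.Agent.H884.El (pre)
open Cfsg.Agent.H833.RS.O73 (finrank_seven nondeg_odd)
open scoped MatrixGroups Matrix

variable {F : Type} [Field F] [Fintype F]

/-- **the residual class**: element orders -/
theorem res_cases (hodd : Odd (Fintype.card F)) {p f : ℕ} (hp : p.Prime) [CharP F p] (hF : Fintype.card F = p ^ f)
    (hq : 3 ≤ p ^ f) {M : Subgroup (POmega F ⇑(quadOdd 3 F))}
    (hmax : IsMaximalIn (omegaGL (quadFormOdd 3 F)) (pre (⇑(quadOdd 3 F)) M))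
    (hres : InOrthogonalResidualClass (pre (⇑(quadOdd 3 F)) M)) :
    (Fintype.card F = 3 ∧ ∃ S : Subgroup M, S.Normal ∧ Subgroup.centralizer (S : Set M) = ⊥ ∧
      Nonempty (S ≃* alternatingGroup (Fin 9))) ∨
    ((Fintype.card F).Prime ∧ ∀ x ∈ M, ∃ y : PSp 3 (ZMod 2), orderOf y = orderOf x) ∨
    (∀ x ∈ M, ∃ y : ↥(Lie.chevG2.group F), orderOf y = orderOf (x ^ (2 * f))) := by
  have h2 : (2 : F) ≠ 0 := Cfsg.Agent.H264.FKS.two_ne_zero_of_odd hodd
  obtain ⟨P, hP, h⟩ := Cfsg.Agent.S5815.result hodd _ hmax hres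
  obtain ⟨S, hSn, -, -, hSC, ⟨e⟩⟩ := Cfsg.Agent.H264.FKS.exists_res_omega (quadOdd_nondegenerate h2)
    (by simp only [Fintype.card_sum, Fintype.card_fin, Fintype.card_unit]; omega)
    (quadOdd_isotropic (by omega)) (M := M) hP
  have key : ∀ (T : Type) [Group T] (k : ℕ), (S ≃* T) →
      (∀ α : MulAut T, α ^ k ∈ (MulAut.conj : T →* MulAut T).range) →
      ∀ x ∈ M, ∃ y : T, orderOf y = orderOf (x ^ k) := by
    intro T _ k eT hT x hx
    have h3 := pow_mem_of_out hSC (out_congr eT hT) ⟨x, hx⟩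
    refine ⟨eT ⟨_, h3⟩, ?_⟩
    rw [MulEquiv.orderOf_eq]
    have h4 : orderOf (⟨(⟨x, hx⟩ : M) ^ k, h3⟩ : S) = orderOf ((⟨x, hx⟩ : M) ^ k) := by
      rw [← Subgroup.orderOf_coe]
    rw [h4, ← Subgroup.orderOf_coe]
    rfl
  rcases h with ⟨⟨e'⟩, h3⟩ | ⟨⟨e'⟩, h3⟩ | ⟨e'⟩
  · exact Or.inl ⟨h3, S, hSn, hSC, ⟨e.trans e'⟩⟩
  · refine Or.inr (Or.inl ⟨h3, fun x hx => ?_⟩)
    obtain ⟨y, hy⟩ := key _ 1 (e.trans e') (fun α => by rw [pow_one]; exact Cfsg.Agent.KFacts.Co3.AutM.aut_PSp α) x hx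
    exact ⟨y, by rw [hy, pow_one]⟩
  · refine Or.inr (Or.inr ?_)
    obtain ⟨e'⟩ := e'
    obtain ⟨e''⟩ := Cfsg.Agent.H638.G2Iso.equiv (F := F)
    exact key _ (2 * f) ((e.trans e').trans e'') (out_chevG2 hp hF hq)

theorem pow_order {G : Type*} [Group G] {x : G} {n l : ℕ} (hx : orderOf x = n) (hn : n ≠ 0) (hl : l ∣ n) :
    orderOf (x ^ (n / l)) = l := by
  rw [← hx]
  exact orderOf_pow_orderOf_div (by rw [hx]; exact hn) (by rw [hx]; exact hl)

theorem order_pow_dvd {G : Type*} [Group G] {x : G} {n l k : ℕ} (hx : orderOf x = n) (hl : l.Prime)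
    (hln : l ∣ n) (hlk : ¬ l ∣ k) : l ∣ orderOf (x ^ k) := by
  rw [orderOf_pow' x (n := k) (by rintro rfl; exact hlk (dvd_zero _)), hx]
  have h1 : ¬ l ∣ Nat.gcd n k := fun h => hlk (h.trans (Nat.gcd_dvd_right _ _))
  have h3 : n = n / Nat.gcd n k * Nat.gcd n k := (Nat.div_mul_cancel (Nat.gcd_dvd_left _ _)).symm
  rw [h3] at hln
  exact (hl.dvd_mul.1 hln).resolve_right h1

theorem le_order_pow {G : Type*} [Group G] {x : G} {n k : ℕ} (hx : orderOf x = n) (hk : 0 < k) :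
    n ≤ orderOf (x ^ k) * k := by
  rw [orderOf_pow' x (n := k) hk.ne', hx]
  have h3 : n = n / Nat.gcd n k * Nat.gcd n k := (Nat.div_mul_cancel (Nat.gcd_dvd_left _ _)).symm
  calc n = n / Nat.gcd n k * Nat.gcd n k := h3
    _ ≤ _ := Nat.mul_le_mul_left _ (Nat.le_of_dvd hk (Nat.gcd_dvd_right _ _))

theorem A_pow {A : POmega F ⇑(quadOdd 3 F) →* ((I7 → F) ≃ₗ[F] (I7 → F))} (hA : Function.Injective A)
    {x : POmega F ⇑(quadOdd 3 F)} {l : ℕ} (hl : l.Prime) (hx : orderOf x = l) : A x ^ l = 1 ∧ A x ≠ 1 := by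
  refine ⟨by rw [← map_pow, ← hx, pow_orderOf_eq_one, map_one], fun h => ?_⟩
  have h1 : x = 1 := hA (by rw [h, map_one])
  rw [h1, orderOf_one] at hx
  exact hl.one_lt.ne hx

/-- **the maximal subgroups containing an element of order `(q³ + 1) / 2`** -/
theorem over_A (hodd : Odd (Fintype.card F)) {p f : ℕ} (hp : p.Prime) (hp2 : p ≠ 2) [CharP F p]
    (hF : Fintype.card F = p ^ f) (hf : 1 ≤ f) (hq5 : 5 ≤ p ^ f) {l : ℕ} (hl : Zp p f 6 l)
    {A : POmega F ⇑(quadOdd 3 F) →* ((I7 → F) ≃ₗ[F] (I7 → F))} (hA : Function.Injective A)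
    (hAO : ∀ x, A x ∈ O (quadOdd 3 F)) {M : Subgroup (POmega F ⇑(quadOdd 3 F))}
    (hmax : IsMaximalIn (omegaGL (quadFormOdd 3 F)) (pre (⇑(quadOdd 3 F)) M)) (hAlt : Alt A M)
    {a : POmega F ⇑(quadOdd 3 F)} (haM : a ∈ M) (ha : orderOf a = (Fintype.card F ^ 3 + 1) / 2) :
    ∃ W : Submodule F (I7 → F), finrank F W = 6 ∧ ND (quadOdd 3 F) W ∧ (∀ x ∈ M, ∀ w ∈ W, A x w ∈ W) ∧
      Nat.card {v : I7 → F | v ∈ W ∧ quadOdd 3 F v = 0} ≡ 1 [MOD l] := by
  have h2 : (2 : F) ≠ 0 := Cfsg.Agent.H264.FKS.two_ne_zero_of_odd hodd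
  have hodd' : Odd (p ^ f) := by rw [← hF]; exact hodd
  have hpo : Odd p := hp.odd_of_ne_two hp2
  have hQ := nondeg_odd (F := F) h2
  have h7 : finrank F (I7 → F) = 7 := finrank_seven
  have hod : Od (Nat.card F) 6 l := by rw [Nat.card_eq_fintype_card, hF]; exact hl.od hf
  have hdvd : l ∣ (Fintype.card F ^ 3 + 1) / 2 := by
    rw [hF]
    exact Zp.dvd_half (k := 3) hl hpo hf (by norm_num)
  have hn0 : (Fintype.card F ^ 3 + 1) / 2 ≠ 0 := by
    have h3 : 1 ≤ Fintype.card F ^ 3 := Nat.one_le_pow _ _ Fintype.card_pos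
    omega
  have ht := pow_order ha hn0 hdvd
  have htM : a ^ ((Fintype.card F ^ 3 + 1) / 2 / l) ∈ M := pow_mem haM _
  obtain ⟨t1, t2⟩ := A_pow hA hl.prime ht
  rcases hAlt with ⟨W, hW0, hWs, hWM⟩ | ⟨W, hW0, he, hWn, hWM⟩ | ⟨hqp, h840⟩ | ⟨F₀, r, hr, hcF, hsub⟩ | hres
  · exact absurd (six_ts hQ h7 hod (hAO _) t1 t2 (hWM _ htM) hWs) hW0
  · obtain ⟨h6, h0⟩ := six_even h7 hod t1 t2 (hWM _ htM) he hW0
    exact ⟨W, h6, hWn, hWM, card_sing_one hl.prime (hAO _) t1 (hWM _ htM) h0⟩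
  · exfalso
    have h3 := orderOf_dvd_of_pow_eq_one (h840 a haM)
    rw [ha] at h3
    exact frame_A (by rw [hF]; exact hq5) hodd h3
  · exfalso
    have h3 : l ∣ Nat.card M := by
      have h4 : orderOf (⟨_, htM⟩ : M) = l := by rw [← Subgroup.orderOf_coe]; exact ht
      rw [← h4]
      exact orderOf_dvd_natCard _
    rcases hsub l hl.prime hod.nd h3 with h4 | h4
    · rw [Nat.card_eq_fintype_card, hF] at h4
      exact hl.not_one hf (by norm_num) h4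
    · rw [hF] at hcF
      exact hl.not_sub hp hf (by norm_num) hr hcF h4
  · exfalso
    rcases res_cases hodd hp hF (by omega) hmax hres with ⟨h3, -⟩ | ⟨-, h3⟩ | h3
    · rw [hF] at h3
      omega
    · obtain ⟨y, hy⟩ := h3 a haM
      have h4 := orders_Sp62 y
      rw [hy, ha] at h4
      have h5 : 5 ^ 3 ≤ Fintype.card F ^ 3 := Nat.pow_le_pow_left (by rw [hF]; exact hq5) 3
      simp only [Cfsg.Agent.H359.Om, Finset.mem_insert, Finset.mem_singleton] at h4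
      omega
    · obtain ⟨y, hy⟩ := h3 a haM
      refine g2_A hp hp2 hf hq5 hl (orders_G2 hp hp2 hf hF (by rw [hF]; exact hq5) y) ?_ ?_
      · rw [hy]
        refine order_pow_dvd ha hl.prime hdvd fun h4 => ?_
        have h5 := Nat.le_of_dvd (by omega) h4
        have := hl.gt
        omega
      · rw [hy, ← hF, ← ha]
        exact le_order_pow rfl (by omega)

/-- invariant nondegenerate subspaces of an element of order `p (q² + 1) / 2` -/
theorem B_even (hodd : Odd (Fintype.card F)) {p f : ℕ} (hp : p.Prime) (hp2 : p ≠ 2) [CharP F p]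
    (hF : Fintype.card F = p ^ f) (hf : 1 ≤ f) {l : ℕ} (hl : Zp p f 4 l)
    {A : POmega F ⇑(quadOdd 3 F) →* ((I7 → F) ≃ₗ[F] (I7 → F))} (hA : Function.Injective A)
    (hAO : ∀ x, A x ∈ O (quadOdd 3 F)) {M : Subgroup (POmega F ⇑(quadOdd 3 F))}
    {b : POmega F ⇑(quadOdd 3 F)} (hbM : b ∈ M) (hb : orderOf b = p * ((Fintype.card F ^ 2 + 1) / 2))
    {W : Submodule F (I7 → F)} (hWM : ∀ x ∈ M, ∀ w ∈ W, A x w ∈ W) (hWn : ND (quadOdd 3 F) W)
    (he : Even (finrank F W)) (hW0 : W ≠ ⊥) : finrank F W = 2 ∨ finrank F W = 4 := by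
  have h2 : (2 : F) ≠ 0 := Cfsg.Agent.H264.FKS.two_ne_zero_of_odd hodd
  have hpo : Odd p := hp.odd_of_ne_two hp2
  have hQ := nondeg_odd (F := F) h2
  have h7 : finrank F (I7 → F) = 7 := finrank_seven
  have hod : Od (Nat.card F) 4 l := by rw [Nat.card_eq_fintype_card, hF]; exact hl.od hf
  have hdvd' : l ∣ (Fintype.card F ^ 2 + 1) / 2 := by
    rw [hF]
    exact Zp.dvd_half (k := 2) hl hpo hf le_rfl
  have hdvd : l ∣ p * ((Fintype.card F ^ 2 + 1) / 2) := hdvd'.mul_left p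
  have hn0 : p * ((Fintype.card F ^ 2 + 1) / 2) ≠ 0 := by
    have h3 : 1 ≤ Fintype.card F ^ 2 := Nat.one_le_pow _ _ Fintype.card_pos
    have h4 : (Fintype.card F ^ 2 + 1) / 2 ≠ 0 := by omega
    exact mul_ne_zero hp.ne_zero h4
  have hs := pow_order hb hn0 hdvd
  have hsM : b ^ (p * ((Fintype.card F ^ 2 + 1) / 2) / l) ∈ M := pow_mem hbM _
  obtain ⟨s1, s2⟩ := A_pow hA hl.prime hs
  have hu := pow_order hb hn0 (dvd_mul_right p _)
  have huM : b ^ (p * ((Fintype.card F ^ 2 + 1) / 2) / p) ∈ M := pow_mem hbM _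
  obtain ⟨u1, u2⟩ := A_pow hA hp hu
  have hpF : p ∣ Nat.card F := by rw [Nat.card_eq_fintype_card, hF]; exact dvd_pow_self p (by omega)
  exact four_even hQ h7 h2 hod (hAO _) s1 s2 hp hpF (hAO _) u1 u2 (by
      rw [← map_mul, ← map_mul, ← pow_add, ← pow_add, add_comm]) (hWM _ hsM) (hWM _ huM) hWn he hW0

/-- **the maximal subgroups containing an element of order `p (q² + 1) / 2`** -/
theorem over_B (hodd : Odd (Fintype.card F)) {p f : ℕ} (hp : p.Prime) (hp2 : p ≠ 2) [CharP F p]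
    (hF : Fintype.card F = p ^ f) (hf : 1 ≤ f) (hq5 : 5 ≤ p ^ f) {l : ℕ} (hl : Zp p f 4 l)
    {A : POmega F ⇑(quadOdd 3 F) →* ((I7 → F) ≃ₗ[F] (I7 → F))} (hA : Function.Injective A)
    (hAO : ∀ x, A x ∈ O (quadOdd 3 F)) {M : Subgroup (POmega F ⇑(quadOdd 3 F))}
    (hmax : IsMaximalIn (omegaGL (quadFormOdd 3 F)) (pre (⇑(quadOdd 3 F)) M)) (hAlt : Alt A M)
    {b : POmega F ⇑(quadOdd 3 F)} (hbM : b ∈ M) (hb : orderOf b = p * ((Fintype.card F ^ 2 + 1) / 2)) :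
    ∃ W : Submodule F (I7 → F), (∀ x ∈ M, ∀ w ∈ W, A x w ∈ W) ∧
      ((finrank F W = 1 ∧ ∀ w ∈ W, quadOdd 3 F w = 0) ∨
        (ND (quadOdd 3 F) W ∧ (finrank F W = 2 ∨ finrank F W = 4))) := by
  have h2 : (2 : F) ≠ 0 := Cfsg.Agent.H264.FKS.two_ne_zero_of_odd hodd
  have hpo : Odd p := hp.odd_of_ne_two hp2
  have hQ := nondeg_odd (F := F) h2
  have h7 : finrank F (I7 → F) = 7 := finrank_seven
  have hod : Od (Nat.card F) 4 l := by rw [Nat.card_eq_fintype_card, hF]; exact hl.od hf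
  have hdvd' : l ∣ (Fintype.card F ^ 2 + 1) / 2 := by
    rw [hF]
    exact Zp.dvd_half (k := 2) hl hpo hf le_rfl
  have hdvd : l ∣ p * ((Fintype.card F ^ 2 + 1) / 2) := hdvd'.mul_left p
  have hn0 : p * ((Fintype.card F ^ 2 + 1) / 2) ≠ 0 := by
    have h3 : 1 ≤ Fintype.card F ^ 2 := Nat.one_le_pow _ _ Fintype.card_pos
    have h4 : (Fintype.card F ^ 2 + 1) / 2 ≠ 0 := by omega
    exact mul_ne_zero hp.ne_zero h4
  have hs := pow_order hb hn0 hdvd
  have hsM : b ^ (p * ((Fintype.card F ^ 2 + 1) / 2) / l) ∈ M := pow_mem hbM _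
  obtain ⟨s1, s2⟩ := A_pow hA hl.prime hs
  rcases hAlt with ⟨W, hW0, hWs, hWM⟩ | ⟨W, hW0, he, hWn, hWM⟩ | ⟨hqp, h840⟩ | ⟨F₀, r, hr, hcF, hsub⟩ | hres
  · exact ⟨W, hWM, Or.inl ⟨four_ts hQ h7 hod (hAO _) s1 s2 (hWM _ hsM) hWs hW0, hWs⟩⟩
  · exact ⟨W, hWM, Or.inr ⟨hWn, B_even hodd hp hp2 hF hf hl hA hAO hbM hb hWM hWn he hW0⟩⟩
  · exfalso
    have h3 := orderOf_dvd_of_pow_eq_one (h840 b hbM)
    have h4 : f = 1 := by
      rw [hF] at hqp
      exact (Nat.Prime.eq_one_of_pow hqp)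
    have h5 : Fintype.card F = p := by rw [hF, h4, pow_one]
    rw [hb, h5] at h3
    exact frame_B (q := p) (by rw [← h5, hF]; exact hq5) hpo h3
  · exfalso
    have h3 : l ∣ Nat.card M := by
      have h4 : orderOf (⟨_, hsM⟩ : M) = l := by rw [← Subgroup.orderOf_coe]; exact hs
      rw [← h4]
      exact orderOf_dvd_natCard _
    rcases hsub l hl.prime hod.nd h3 with h4 | h4
    · rw [Nat.card_eq_fintype_card, hF] at h4
      exact hl.not_one hf (by norm_num) h4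
    · rw [hF] at hcF
      exact hl.not_sub hp hf (by norm_num) hr hcF h4
  · exfalso
    rcases res_cases hodd hp hF (by omega) hmax hres with ⟨h3, -⟩ | ⟨-, h3⟩ | h3
    · rw [hF] at h3
      omega
    · obtain ⟨y, hy⟩ := h3 b hbM
      have h4 := orders_Sp62 y
      rw [hy, hb] at h4
      have h5 : 5 ^ 2 ≤ Fintype.card F ^ 2 := Nat.pow_le_pow_left (by rw [hF]; exact hq5) 2
      have h6 : 13 ≤ (Fintype.card F ^ 2 + 1) / 2 := by omega
      have h8 : 3 ≤ p := by have := hp.two_le; omega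
      have h9 : 3 * 13 ≤ p * ((Fintype.card F ^ 2 + 1) / 2) := Nat.mul_le_mul h8 h6
      simp only [Cfsg.Agent.H359.Om, Finset.mem_insert, Finset.mem_singleton] at h4
      omega
    · obtain ⟨y, hy⟩ := h3 b hbM
      refine g2_B hf hq5 hl (orders_G2 hp hp2 hf hF (by rw [hF]; exact hq5) y) ?_
      rw [hy]
      refine order_pow_dvd hb hl.prime hdvd fun h4 => ?_
      have h5 := Nat.le_of_dvd (by omega) h4
      have := hl.gt
      omega

theorem order_conj {G : Type*} [Group G] (g x : G) : orderOf (g * x * g⁻¹) = orderOf x :=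
  orderOf_injective (MulAut.conj g).toMonoidHom (MulAut.conj g).injective x

/-- **`q ≥ 5`** -/
theorem noTwo_big (hodd : Odd (Fintype.card F)) (h5 : 5 ≤ Fintype.card F) : NoTwo (POmega F (quadFormOdd 3 F)) := by
  rw [← coe_quadOdd]
  have h2 : (2 : F) ≠ 0 := Cfsg.Agent.H264.FKS.two_ne_zero_of_odd hodd
  have hfin : Finite (POmega F ⇑(quadOdd 3 F)) := Quotient.finite _
  obtain ⟨p, hchF⟩ := CharP.exists F
  have hp : p.Prime := CharP.char_is_prime F p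
  obtain ⟨f, hp', hF'⟩ := FiniteField.card F p
  have hF : Fintype.card F = p ^ (f : ℕ) := hF'
  have hf : 1 ≤ (f : ℕ) := f.pos
  have hp2 : p ≠ 2 := by
    rintro rfl
    apply h2
    exact_mod_cast CharP.cast_eq_zero F 2
  have hq5 : 5 ≤ p ^ (f : ℕ) := by rw [← hF]; exact h5
  obtain ⟨l6, hl6⟩ := exists_zp (e := 6) hp hp2 hf (by norm_num)
  obtain ⟨l4, hl4⟩ := exists_zp (e := 4) hp hp2 hf (by norm_num)
  obtain ⟨l3, hl3⟩ := exists_zp (e := 3) hp hp2 hf (by norm_num)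
  obtain ⟨A, hA, hAO, hAlt⟩ := exists_alt hodd
  obtain ⟨a, ha⟩ := exists_A h2 hodd
  obtain ⟨b, hb⟩ := exists_B hp hp2 hf hF h2 hodd
  obtain ⟨c', hc'⟩ := exists_C h2 hodd (by omega)
  have hQ := nondeg_odd (F := F) h2
  have h7 : finrank F (I7 → F) = 7 := finrank_seven
  have hod6 : Od (Nat.card F) 6 l6 := by rw [Nat.card_eq_fintype_card, hF]; exact hl6.od hf
  have hod3 : Od (Nat.card F) 3 l3 := by rw [Nat.card_eq_fintype_card, hF]; exact hl3.od hf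
  have hl3o : Odd l3 := hl3.odd hf le_rfl
  have hl33 : l3 ∣ Fintype.card F ^ 3 - 1 := by rw [hF, hl3.iff_q hf]
  -- the element of order `l3`
  obtain ⟨c, hc⟩ : ∃ c : POmega F ⇑(quadOdd 3 F), orderOf c = l3 := by
    have h3 : l3 ∣ (Fintype.card F ^ 3 - 1) / 2 := by
      have h4 := hl33
      rw [half_eq' hodd, hl3.prime.dvd_mul] at h4
      rcases h4 with h4 | h4
      · rw [(Nat.prime_dvd_prime_iff_eq hl3.prime Nat.prime_two).1 h4] at hl3o
        exact absurd hl3o (by decide)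
      · exact h4
    refine ⟨_, pow_order hc' ?_ h3⟩
    have h6 : 5 ^ 3 ≤ Fintype.card F ^ 3 := Nat.pow_le_pow_left h5 3
    omega
  have hcon : ∀ g : POmega F ⇑(quadOdd 3 F), A (g * c * g⁻¹) ^ l3 = 1 ∧ A (g * c * g⁻¹) ≠ 1 := fun g =>
    A_pow hA hl3.prime (by rw [order_conj, hc])
  -- `c` is not in the subgroups over `a`
  have hcA : ∀ M : Subgroup (POmega F ⇑(quadOdd 3 F)), IsCoatom M → a ∈ M → Av c M := by
    intro M hM haM g hg
    obtain ⟨W, h6, hN, hWM, hcount⟩ :=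
      over_A hodd hp hp2 hF hf hq5 hl6 hA hAO (hAlt M hM).1 (hAlt M hM).2 haM ha
    obtain ⟨c1, c2⟩ := hcon g
    have h8 := three_six hQ h7 h2 hod3 hl3o (hAO _) c1 c2 (hWM _ hg) h6
    have h9 := card_sing_one hl3.prime (hAO _) c1 (hWM _ hg) h8
    have h10 := card_sub_six h2 hN h6
    exact no_both (q := Nat.card F) (by rw [Nat.card_eq_fintype_card]; omega) hod6 hod3
      (by rw [Nat.card_eq_fintype_card]; exact hl33) hl3o hcount h9 h10
  have hcB : ∀ M : Subgroup (POmega F ⇑(quadOdd 3 F)), IsCoatom M → b ∈ M → Av c M := by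
    intro M hM hbM g hg
    obtain ⟨W, hWM, h⟩ := over_B hodd hp hp2 hF hf hq5 hl4 hA hAO (hAlt M hM).1 (hAlt M hM).2 hbM hb
    obtain ⟨c1, c2⟩ := hcon g
    rcases h with ⟨h1, hs⟩ | ⟨hN, h24⟩
    · exact three_line hQ h7 h2 hod3 hl3o (hAO _) c1 c2 (hWM _ hg) hs h1
    · obtain ⟨k2, k4⟩ := three_even hQ h7 h2 hod3 hl3o (hAO _) c1 c2 (hWM _ hg) hN
      exact h24.elim k2 k4
  refine noTwo_of_two (a := a) (b := b) (fun M hM => ?_) fun H K hH hK haH hbK => ⟨c, hcA H hH haH, hcB K hK hbK⟩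
  -- no maximal subgroup meets both classes
  by_contra hcon
  push Not at hcon
  obtain ⟨h8, h9⟩ := hcon
  obtain ⟨g, hg⟩ := not_av h8
  obtain ⟨k, hk⟩ := not_av h9
  obtain ⟨W, h6, hN, hWM, -⟩ := over_A hodd hp hp2 hF hf hq5 hl6 hA hAO (hAlt M hM).1 (hAlt M hM).2 hg
    (by rw [order_conj, ha])
  have hW0 : W ≠ ⊥ := by
    rintro rfl
    rw [finrank_bot] at h6
    omega
  have h10 := B_even hodd hp hp2 hF hf hl4 hA hAO hk (by rw [order_conj, hb]) hWM hN (by rw [h6]; decide) hW0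
  omega

end Cfsg.Agent.H327.COV
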