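import Cfsg.Agent.H327.COV.Seven
import Cfsg.Agent.H166.Og.XCore

/-!
# The number of singular vectors of a nondegenerate space of dimension 6 (S2499)
-/

set_option autoImplicit false

namespace Cfsg.Agent.H327.COV

open QuadraticMap Module
open Cfsg.Agent.LieClassical.OrthCore
open Cfsg.Agent.H858.TOrth (fix mem_fix ND)
open Cfsg.Agent.H883.Sub (perp mem_perp mem_perp' finrank_perp)
open Cfsg.Agent.H160.QSpin Cfsg.Agent.H160.QDisc Cfsg.Agent.H160.QSemi

section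

variable {F : Type} [Field F] [Fintype F]

theorem card_iso {V W : Type*} [AddCommGroup V] [Module F V] [AddCommGroup W] [Module F W]
    {Q : QuadraticForm F V} {Q' : QuadraticForm F W} {e : V ≃ₗ[F] W} (he : IsIso Q Q' e) :
    Nat.card {v : V // Q v = 0} = Nat.card {w : W // Q' w = 0} :=
  Nat.card_congr (e.toEquiv.subtypeEquiv fun v => by
    change Q v = 0 ↔ Q' (e v) = 0
    rw [he])

/-- singular vectors of `x y + R` -/
theorem card_hyp_prod {U : Type} [AddCommGroup U] [Module F U] [FiniteDimensional F U] (n : ℕ)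
    (R : QuadraticForm F U) : Nat.card {v : ((Fin n → F) × (Fin n → F)) × U // ((hyp F n).prod R) v = 0} =
      (Nat.card F ^ n - 1) * (Nat.card F ^ (n - 1) * Nat.card F ^ finrank F U) +
        Nat.card F ^ n * Nat.card {u : U // R u = 0} := by
  rw [← Cfsg.Agent.H166.Og.card_sing]
  refine Nat.card_congr (Equiv.subtypeEquivRight fun v => ?_)
  rw [Qpr_apply, hyp_apply, Cfsg.Agent.H105.Og.HU_apply]
  rfl

/-- singular vectors of a binary form -/
theorem card_plane (h2 : (2 : F) ≠ 0) {R : QuadraticForm F (Fin 2 → F)} (hR : Nondeg R) :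
    Nat.card {u : Fin 2 → F // R u = 0} = 1 ∨ Nat.card {u : Fin 2 → F // R u = 0} = 2 * Nat.card F - 1 := by
  classical
  by_cases h : ∃ v : Fin 2 → F, v ≠ 0 ∧ R v = 0
  · right
    obtain ⟨v, hv, hRv⟩ := h
    have hd : dc R = quadraticChar F (-1) ^ 1 := by
      refine dc_of_isotropic hR (by simp) (Submodule.span F {v}) (finrank_span_singleton hv) ?_
      intro x hx y hy
      obtain ⟨a, rfl⟩ := Submodule.mem_span_singleton.1 hx
      obtain ⟨b, rfl⟩ := Submodule.mem_span_singleton.1 hy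
      rw [polar_smul_left, polar_smul_right, polar_self_of_sing hRv, smul_zero, smul_zero]
    obtain ⟨e, he⟩ := exists_iso h2 hR (nondeg_hyp (F := F) 1) (by simp) (by rw [hd, dc_hyp])
    rw [card_iso he]
    have h3 := card_hyp_prod (F := F) (U := Fin 0 → F) 1 (0 : QuadraticForm F (Fin 0 → F))
    have h4 : Nat.card {u : Fin 0 → F // (0 : QuadraticForm F (Fin 0 → F)) u = 0} = 1 := by
      rw [Nat.card_eq_one_iff_unique]
      exact ⟨⟨fun a b => Subtype.ext (Subsingleton.elim _ _)⟩, ⟨⟨0, rfl⟩⟩⟩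
    have h5 : Nat.card {v : ((Fin 1 → F) × (Fin 1 → F)) × (Fin 0 → F) //
        ((hyp F 1).prod (0 : QuadraticForm F (Fin 0 → F))) v = 0} =
        Nat.card {v : (Fin 1 → F) × (Fin 1 → F) // hyp F 1 v = 0} := by
      refine Nat.card_congr ⟨fun v => ⟨v.1.1, ?_⟩, fun v => ⟨(v.1, 0), ?_⟩, ?_, fun v => rfl⟩
      · have := v.2
        rw [Qpr_apply] at this
        simpa using this
      · rw [Qpr_apply]
        simpa using v.2
      · rintro ⟨⟨a, b⟩, h⟩
        exact Subtype.ext (Prod.ext rfl (Subsingleton.elim _ _))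
    rw [h5, h4] at h3
    rw [h3]
    have h6 : 1 ≤ Nat.card F := Nat.card_pos
    simp
    omega
  · left
    push Not at h
    rw [Nat.card_eq_one_iff_unique]
    refine ⟨⟨fun a b => Subtype.ext ?_⟩, ⟨⟨0, map_zero R⟩⟩⟩
    have ha : a.1 = 0 := by
      by_contra h0
      exact h _ h0 a.2
    have hb : b.1 = 0 := by
      by_contra h0
      exact h _ h0 b.2
    rw [ha, hb]

theorem card_six {V : Type*} [AddCommGroup V] [Module F V] [FiniteDimensional F V] (h2 : (2 : F) ≠ 0)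
    {Q : QuadraticForm F V} (hQ : Nondeg Q) (h6 : finrank F V = 6) :
    Nat.card {v : V // Q v = 0} + Nat.card F ^ 3 = Nat.card F ^ 5 + Nat.card F ^ 2 ∨
    Nat.card {v : V // Q v = 0} + Nat.card F ^ 2 = Nat.card F ^ 5 + Nat.card F ^ 3 := by
  classical
  obtain ⟨R, hR, hdR⟩ := exists_form h2 (dc_cases hQ) 1
  obtain ⟨e, he⟩ := exists_iso h2 hQ (nondeg_prod (nondeg_hyp (F := F) 2) hR) (by simp [h6]) (by
    rw [dc_prod, dc_hyp, hdR]
    have h3 : quadraticChar F (-1) ^ 2 = 1 := quadraticChar_sq_one (neg_ne_zero.2 one_ne_zero)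
    rw [h3, one_mul])
  rw [card_iso he, card_hyp_prod]
  have h4 : finrank F (Fin (1 + 1) → F) = 2 := by simp
  rw [h4]
  obtain ⟨c, hc⟩ : ∃ c, Nat.card F = c + 1 := ⟨Nat.card F - 1, by have : 0 < Nat.card F := Nat.card_pos; omega⟩
  have hc2 : Nat.card F ^ 2 - 1 = c ^ 2 + 2 * c := by
    rw [hc]
    have : (c + 1) ^ 2 = c ^ 2 + 2 * c + 1 := by ring
    omega
  rcases card_plane h2 hR with h5 | h5
  · left
    rw [h5, hc2, hc]
    ring
  · right
    rw [h5, hc2, hc]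
    have : 2 * (c + 1) - 1 = 2 * c + 1 := by omega
    rw [this]
    ring

theorem card_sub_six {V : Type*} [AddCommGroup V] [Module F V] [FiniteDimensional F V] (h2 : (2 : F) ≠ 0)
    {Q : QuadraticForm F V} {W : Submodule F V} (hN : ND Q W) (h6 : finrank F W = 6) :
    Nat.card {v : V | v ∈ W ∧ Q v = 0} + Nat.card F ^ 3 = Nat.card F ^ 5 + Nat.card F ^ 2 ∨
    Nat.card {v : V | v ∈ W ∧ Q v = 0} + Nat.card F ^ 2 = Nat.card F ^ 5 + Nat.card F ^ 3 := by
  have h3 := card_six h2 ((nd_on hN).res) h6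
  have h4 : Nat.card {v : W // Cfsg.Agent.H883.Sub.res Q W v = 0} = Nat.card {v : V | v ∈ W ∧ Q v = 0} :=
    Nat.card_congr ⟨fun v => ⟨v.1.1, v.1.2, v.2⟩, fun v => ⟨⟨v.1, v.2.1⟩, v.2.2⟩, fun v => rfl, fun v => rfl⟩
  rwa [h4] at h3

end

/-! ### the final count -/

theorem mod_six {q e l N : ℕ} (hq : 2 ≤ q) (hl : Od q e l) (h : N ≡ 1 [MOD l]) :
    (N + q ^ 3 = q ^ 5 + q ^ 2 → (q ^ 3 + 1) * (q ^ 2 - 1) ≡ 0 [MOD l]) ∧
    (N + q ^ 2 = q ^ 5 + q ^ 3 → (q ^ 3 - 1) * (q ^ 2 + 1) ≡ 0 [MOD l]) := by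
  obtain ⟨c, rfl⟩ : ∃ c, q = c + 1 := ⟨q - 1, by omega⟩
  have hc2 : (c + 1) ^ 2 - 1 = c ^ 2 + 2 * c := by
    have : (c + 1) ^ 2 = c ^ 2 + 2 * c + 1 := by ring
    omega
  have hc3 : (c + 1) ^ 3 - 1 = c ^ 3 + 3 * c ^ 2 + 3 * c := by
    have : (c + 1) ^ 3 = c ^ 3 + 3 * c ^ 2 + 3 * c + 1 := by ring
    omega
  constructor
  · intro h1
    have h3 : N = ((c + 1) ^ 3 + 1) * ((c + 1) ^ 2 - 1) + 1 := by
      rw [hc2]
      have h4 : ((c + 1) ^ 3 + 1) * (c ^ 2 + 2 * c) + 1 + (c + 1) ^ 3 = (c + 1) ^ 5 + (c + 1) ^ 2 := by ring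
      omega
    rw [h3] at h
    exact Nat.ModEq.add_right_cancel' 1 (by simpa using h)
  · intro h1
    have h3 : N = ((c + 1) ^ 3 - 1) * ((c + 1) ^ 2 + 1) + 1 := by
      rw [hc3]
      have h4 : (c ^ 3 + 3 * c ^ 2 + 3 * c) * ((c + 1) ^ 2 + 1) + 1 + (c + 1) ^ 2 = (c + 1) ^ 5 + (c + 1) ^ 3 := by ring
      omega
    rw [h3] at h
    exact Nat.ModEq.add_right_cancel' 1 (by simpa using h)

theorem dvd_of_add {q k l : ℕ} (h : l ∣ q ^ k + 1) : l ∣ q ^ (2 * k) - 1 := by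
  have : q ^ (2 * k) - 1 = (q ^ k + 1) * (q ^ k - 1) := by
    rw [mul_comm 2 k, pow_mul, ← Nat.sq_sub_sq, one_pow]
  rw [this]
  exact Dvd.dvd.mul_right h _

/-- the number of singular vectors of a minus type space is not `1` modulo a prime of order 3 -/
theorem no_both {q l₆ l₃ N : ℕ} (hq : 2 ≤ q) (h6 : Od q 6 l₆) (h3 : Od q 3 l₃) (h33 : l₃ ∣ q ^ 3 - 1)
    (hodd : Odd l₃) (h6' : N ≡ 1 [MOD l₆]) (h3' : N ≡ 1 [MOD l₃]) (hN : N + q ^ 3 = q ^ 5 + q ^ 2 ∨ N + q ^ 2 = q ^ 5 + q ^ 3) : False := by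
  rcases hN with h | h
  · have h4 := Nat.modEq_zero_iff_dvd.1 ((mod_six hq h3 h3').1 h)
    rcases h3.prime.dvd_mul.1 h4 with h5 | h5
    · have h6 := (Nat.dvd_sub h5 h33)
      have h7 : 1 ≤ q ^ 3 := Nat.one_le_pow _ _ (by omega)
      rw [show q ^ 3 + 1 - (q ^ 3 - 1) = 2 by omega] at h6
      rw [(Nat.prime_dvd_prime_iff_eq h3.prime Nat.prime_two).1 h6] at hodd
      exact absurd hodd (by decide)
    · have := h3.dvd 2 h5
      omega
  · have h4 := Nat.modEq_zero_iff_dvd.1 ((mod_six hq h6 h6').2 h)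
    rcases h6.prime.dvd_mul.1 h4 with h5 | h5
    · have := h6.dvd 3 h5
      omega
    · have := h6.dvd 4 (dvd_of_add (k := 2) h5)
      omega

end Cfsg.Agent.H327.COV
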