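import Cfsg.Agent.H160.G2Three

/-!
# Element orders of `G₂(3)` (S2499): no elements of order 14, 15, 18
-/

set_option autoImplicit false
set_option maxRecDepth 100000
set_option Elab.async false

namespace Cfsg.Agent.H327.COV.G23

open Cfsg.Lie
open Cfsg.Agent.GTwoThree.Model hiding wr
open Cfsg.Agent.OddHalf.Small.G23Data Cfsg.Agent.OddHalf.Small.G23Check
open Cfsg.Agent.OddHalf.Small.G23 (z cent exists_conj card_G)
open Cfsg.Agent.H160.G2Three (wr not_two)

theorem C_check3 : ∀ i ∈ NZ, ∀ a < 3, ∀ d < 3, eqc ((List.replicate 3 (wr i a d)).flatten) [] = true ∨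
    nec ((List.replicate 9 (wr i a d)).flatten) [] = true := by
  decide +kernel

theorem pow_three_of_comm {g : ↥Gp} (hg : g * z = z * g) (h9 : g ^ 9 = 1) : g ^ 3 = 1 := by
  obtain ⟨a, d, i, hi, a', d', a'', d'', rfl, e⟩ := cent hg
  set u := ev y (wx 6 a.val ++ wx 9 d.val) with hu
  set n := ev y (NL.getD i []) with hn
  set v := ev y (wx 6 a'.val ++ wx 9 d'.val) with hv
  have e1 : u⁻¹ * (u * n * v) * u = ev y (wr i a''.val d''.val) := by
    rw [wr, ev_append, ← e, ← hn]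
    group
  have e2 : ∀ k : ℕ, (ev y (wr i a''.val d''.val)) ^ k = u⁻¹ * (u * n * v) ^ k * u := by
    intro k
    rw [← e1]
    have : u⁻¹ * (u * n * v) * u = u⁻¹ * (u * n * v) * u⁻¹⁻¹ := by rw [inv_inv]
    rw [this, conj_pow, inv_inv]
  have hpow : ∀ (w : List ℕ) (n : ℕ), ev y ((List.replicate n w).flatten) = (ev y w) ^ n := by
    intro w n
    induction n with
    | zero => rfl
    | succ n ih => rw [List.replicate_succ, List.flatten_cons, ev_append, ih, pow_succ']
  rcases C_check3 i hi a''.val a''.2 d''.val d''.2 with h | h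
  · have h1 : ev y ((List.replicate 3 (wr i a''.val d''.val)).flatten) = 1 := eq_of_eqc h
    rw [hpow, e2] at h1
    have h2 : u * (u⁻¹ * (u * n * v) ^ 3 * u) * u⁻¹ = 1 := by rw [h1]; group
    rw [← h2]
    group
  · exfalso
    apply ne_of_nec h
    rw [hpow, e2, h9]
    change u⁻¹ * 1 * u = 1
    group

theorem not_18 (g : ↥Gp) : orderOf g ≠ 18 := by
  intro hg
  have h2 : orderOf (g ^ 9) = 2 := by
    rw [orderOf_pow_of_dvd (by omega) ⟨2, by rw [hg]⟩, hg]
  obtain ⟨c, hc⟩ := exists_conj h2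
  have h4 : g ^ 2 * g ^ 9 = g ^ 9 * g ^ 2 := by rw [← pow_add, ← pow_add, add_comm]
  have h5 := pow_three_of_comm (g := c * g ^ 2 * c⁻¹) (by
    rw [← hc]
    calc c * g ^ 2 * c⁻¹ * (c * g ^ 9 * c⁻¹) = c * (g ^ 2 * g ^ 9) * c⁻¹ := by group
      _ = c * (g ^ 9 * g ^ 2) * c⁻¹ := by rw [h4]
      _ = _ := by group) (by
    rw [conj_pow, ← pow_mul, show 2 * 9 = 18 by norm_num, ← hg, pow_orderOf_eq_one]
    group)
  rw [conj_pow, conj_eq_one_iff, ← pow_mul] at h5
  have h6 := orderOf_dvd_of_pow_eq_one h5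
  rw [hg] at h6
  omega

theorem not_14 (g : ↥Gp) : orderOf g ≠ 14 := not_two (m := 7) (Or.inl rfl)

theorem not_15 (g : ↥Gp) : orderOf g ≠ 15 := by
  intro hg
  have h1 := orderOf_dvd_natCard g
  rw [hg, card_G] at h1
  omega

end Cfsg.Agent.H327.COV.G23
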