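import Cfsg.Agent.H327.COV.Grp
import Cfsg.Agent.H160.QFinal

/-!
# The maximal subgroups of `Ω₇(q)` (S5814) as subgroups of `POmega`, with preimages (S2499)
-/

set_option autoImplicit false

namespace Cfsg.Agent.H327.COV

open QuadraticMap Module Cfsg Cfsg.Geo
open Cfsg.Agent.LieClassical.OrthCore Cfsg.Agent.LieClassical.OrthFinite Cfsg.Agent.LieClassical.OmegaReindex
open Cfsg.Agent.H858.TOrth (fix mem_fix ND)
open Cfsg.Agent.H883.Sub (perp mem_perp mem_perp' finrank_perp)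
open Cfsg.Agent.H884.El (pre)
open Cfsg.Agent.H833.RS.O73
open Cfsg.Agent.H160.QSpin (El)
open scoped MatrixGroups Matrix

section

variable {F : Type} [Field F] [Fintype F]

/-- the frame alternative, with a permutation of degree 7 -/
def Alt' (A : POmega F ⇑(quadOdd 3 F) →* ((I7 → F) ≃ₗ[F] (I7 → F))) (M : Subgroup (POmega F ⇑(quadOdd 3 F))) : Prop :=
  (∃ W : Submodule F (I7 → F), W ≠ ⊥ ∧ (∀ w ∈ W, quadOdd 3 F w = 0) ∧ ∀ x ∈ M, ∀ w ∈ W, A x w ∈ W) ∨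
  (∃ W : Submodule F (I7 → F), W ≠ ⊥ ∧ Even (finrank F W) ∧ ND (quadOdd 3 F) W ∧ ∀ x ∈ M, ∀ w ∈ W, A x w ∈ W) ∨
  ((Fintype.card F).Prime ∧ ∀ x ∈ M, x ^ 840 = 1) ∨
  (∃ (F₀ : Subfield F) (r : ℕ), r.Prime ∧ Fintype.card F = Nat.card F₀ ^ r) ∨
  InOrthogonalResidualClass (pre (⇑(quadOdd 3 F)) M)

/-- the action, the alternatives and the image -/
theorem exists_alt' (hodd : Odd (Fintype.card F)) :
    ∃ A : POmega F ⇑(quadOdd 3 F) →* ((I7 → F) ≃ₗ[F] (I7 → F)), Function.Injective A ∧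
      (∀ x, A x ∈ O (quadOdd 3 F)) ∧ (∀ g, El (quadOdd 3 F) 1 g → ∃ x, A x = g) ∧
      ∀ M : Subgroup (POmega F ⇑(quadOdd 3 F)), IsCoatom M →
        IsMaximalIn (omegaGL (quadFormOdd 3 F)) (pre (⇑(quadOdd 3 F)) M) ∧ Alt' A M := by
  have h2 : (2 : F) ≠ 0 := Cfsg.Agent.H264.FKS.two_ne_zero_of_odd hodd
  have hfin : Finite (POmega F ⇑(quadOdd 3 F)) := Quotient.finite _
  obtain ⟨ψ, hψ, hr, hpre⟩ := exists_emb h2
  refine ⟨(glEquiv I7 F).toMonoidHom.comp ψ, (glEquiv I7 F).injective.comp hψ, fun x => ?_, fun g hg => ?_,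
    fun M hM => ?_⟩
  · exact mem_O.2 (iso_emb hψ hr x)
  · obtain ⟨x, hx⟩ := Cfsg.Agent.H160.QFinal.exists_lin h2 (nondeg_odd h2) (by rw [H884.El.card_odd]; omega) hg
    have h3 : (((x : Cfsg.isometryGroup F ⇑(quadOdd 3 F)) : GL I7 F)) ∈ ψ.range := by
      rw [hr]
      exact ⟨_, x.2, rfl⟩
    obtain ⟨y, hy⟩ := h3
    refine ⟨y, ?_⟩
    change glEquiv I7 F (ψ y) = g
    rw [hy, ← hx]
    rfl
  have hmax : IsMaximalIn (omegaGL ⇑(quadOdd 3 F)) (pre (⇑(quadOdd 3 F)) M) := by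
    rw [hpre, ← hr]
    exact isMaximalIn_map hψ hM
  have hmem : ∀ z ∈ M, ψ z ∈ pre (⇑(quadOdd 3 F)) M := fun z hz => by rw [hpre]; exact ⟨z, hz, rfl⟩
  obtain ⟨H, hH⟩ : ∃ H, H = pre (⇑(quadOdd 3 F)) M := ⟨_, rfl⟩
  unfold Alt'
  rw [← hH] at hmax hmem ⊢
  rw [coe_quadOdd] at hmax
  refine ⟨hmax, ?_⟩
  rcases Cfsg.Agent.S5814.result (F := F) hodd H hmax with
    ⟨W, hW0, hWs, hHW⟩ | ⟨W, hW0, he, hWn, -, hHW⟩ | ⟨hq, D, hD, hHD⟩ | ⟨F₀, s, P, hs, hcF, -, hHS⟩ | h6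
  · left
    refine ⟨W, hW0, fun w hw => ?_, fun x hx w hw => ?_⟩
    · rw [coe_quadOdd]
      exact hWs w hw
    · have h1 := hmem x hx
      rw [hHW] at h1
      exact (h1.1 w).1 hw
  · right; left
    rw [← coe_quadOdd] at hWn
    refine ⟨W, hW0, he, ND.of_geo hWn, fun x hx w hw => ?_⟩
    have h1 := hmem x hx
    rw [hHW] at h1
    exact (h1.1 w).1 hw
  · right; right; left
    refine ⟨hq, fun x hx => ?_⟩
    have hD' := hD.decomp
    rw [← coe_quadOdd] at hD'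
    have h4 := hmem x hx
    rw [hHD] at h4
    obtain ⟨σ, hσ⟩ := h4.1
    have h5 := frame_pow hD' (iso_emb hψ hr x) hσ
    have h7 : x ^ (orderOf σ * 2) = 1 := by
      by_contra hne
      apply lin_emb_ne hψ hr hne
      rw [map_pow, Cfsg.Agent.H884.El.lin, H251.GeoCard.toLin_pow]
      exact h5
    obtain ⟨c, hc⟩ := perm_pow σ
    have h8 : orderOf σ * 2 * c = (orderOf σ * c) * 2 := by ring
    rw [← hc] at h8
    have h9 : 840 = orderOf σ * 2 * c := by omega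
    rw [h9, pow_mul, h7, one_pow]
  · right; right; right; left
    exact ⟨F₀, s, hs, hcF⟩
  · right; right; right; right
    exact h6

end

end Cfsg.Agent.H327.COV
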