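import Cfsg.Agent.H858.TOrthA
import Cfsg.Agent.H883.Sub
import Cfsg.Agent.H970.Om7.Main

/-!
# Linear algebra for `NoTwo (Ω₇(q))` (S2499)

Fixed spaces of isometries of prime order on invariant subspaces.
-/

set_option autoImplicit false

namespace Cfsg.Agent.H327.COV

open QuadraticMap Module
open Cfsg.Agent.LieClassical.OrthCore
open Cfsg.Agent.H858.TOrth (fix mem_fix ND)
open Cfsg.Agent.H883.Sub (perp mem_perp mem_perp' finrank_perp)

/-- `l` is a prime such that `q ^ m = 1` modulo `l` only if `e` divides `m` -/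
structure Od (q e l : ℕ) : Prop where
  prime : l.Prime
  nd : ¬ l ∣ q
  dvd : ∀ m, l ∣ q ^ m - 1 → e ∣ m

variable {F V : Type*} [Field F] [AddCommGroup V] [Module F V] {Q : QuadraticForm F V}

theorem inf_fix_le {W : Submodule F V} {g : V ≃ₗ[F] V} : W ⊓ fix g ≤ W := inf_le_left

/-- counting fixed points on an invariant set -/
theorem card_modEq [Finite V] {l : ℕ} (hl : l.Prime) {g : V ≃ₗ[F] V} (hg : g ^ l = 1) (S : Set V)
    (hS : ∀ v ∈ S, g v ∈ S) : Nat.card S ≡ Nat.card {v : V | v ∈ S ∧ g v = v} [MOD l] := by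
  classical
  have := Fact.mk hl
  have : Fintype S := Fintype.ofFinite _
  let f : Function.End S := fun v => ⟨g v, hS v v.2⟩
  have hf : ∀ n : ℕ, ∀ v, (((f ^ n : Function.End S) v : S) : V) = (g ^ n) v := by
    intro n
    induction n with
    | zero => intro v; rfl
    | succ n ih =>
      intro v
      rw [pow_succ, pow_succ]
      change (((f ^ n : Function.End S) (f v) : S) : V) = (g ^ n) (g v)
      rw [ih]
  have hfp : f ^ l ^ 1 = 1 := by
    funext v
    apply Subtype.ext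
    rw [pow_one, hf l v, hg]
    rfl
  have h1 := Equiv.Perm.card_fixedPoints_modEq hfp
  rw [Nat.card_eq_fintype_card]
  refine h1.trans ?_
  rw [← Nat.card_eq_fintype_card]
  have h2 : Nat.card (Function.fixedPoints f) = Nat.card {v : V | v ∈ S ∧ g v = v} := by
    refine Nat.card_congr ⟨fun v => ⟨v.1.1, v.1.2, congrArg Subtype.val v.2⟩, fun v => ⟨⟨v.1, v.2.1⟩, ?_⟩,
      fun v => rfl, fun v => rfl⟩
    exact Subtype.ext v.2.2
  rw [h2]

/-- the dimension of the fixed space on an invariant subspace -/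
theorem Od.step [Finite F] [FiniteDimensional F V] {e l : ℕ} (h : Od (Nat.card F) e l) {g : V ≃ₗ[F] V}
    (hg : g ^ l = 1) {W : Submodule F V} (hW : ∀ w ∈ W, g w ∈ W) :
    ∃ k, finrank F W = finrank F ↥(W ⊓ fix g) + e * k := by
  have hV : Finite V := Module.finite_of_finite F
  have h1 := card_modEq h.prime hg (W : Set V) hW
  have h2 : {v : V | v ∈ (W : Set V) ∧ g v = v} = ((W ⊓ fix g : Submodule F V) : Set V) := by
    ext v
    simp [mem_fix]
  rw [h2] at h1
  change Nat.card W ≡ Nat.card ↥(W ⊓ fix g) [MOD l] at h1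
  rw [Module.natCard_eq_pow_finrank (K := F) (V := W),
    Module.natCard_eq_pow_finrank (K := F) (V := ↥(W ⊓ fix g))] at h1
  have h3 : finrank F ↥(W ⊓ fix g) ≤ finrank F W := Submodule.finrank_mono inf_fix_le
  obtain ⟨j, hj⟩ := Nat.exists_eq_add_of_le h3
  rw [hj, pow_add] at h1
  have h4 : l ∣ Nat.card F ^ finrank F ↥(W ⊓ fix g) * Nat.card F ^ j - Nat.card F ^ finrank F ↥(W ⊓ fix g) :=
    (Nat.modEq_iff_dvd' (Nat.le_mul_of_pos_right _ (pow_pos Nat.card_pos _))).1 h1.symm
  have h5 : Nat.card F ^ finrank F ↥(W ⊓ fix g) * Nat.card F ^ j - Nat.card F ^ finrank F ↥(W ⊓ fix g) =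
      Nat.card F ^ finrank F ↥(W ⊓ fix g) * (Nat.card F ^ j - 1) := by
    rw [Nat.mul_sub, mul_one]
  rw [h5, h.prime.dvd_mul] at h4
  rcases h4 with h4 | h4
  · exact absurd (h.prime.dvd_of_dvd_pow h4) h.nd
  · obtain ⟨k, hk⟩ := h.dvd j h4
    exact ⟨k, by rw [hj, hk]⟩

theorem fix_eq_top {g : V ≃ₗ[F] V} (h : fix g = ⊤) : g = 1 := by
  ext v
  have : v ∈ fix g := by rw [h]; trivial
  exact mem_fix.1 this

/-- singular vectors of an invariant subspace without fixed vectors -/
theorem card_sing_one [Finite F] [FiniteDimensional F V] {l : ℕ} (hl : l.Prime) {g : V ≃ₗ[F] V}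
    (hgQ : g ∈ O Q) (hg : g ^ l = 1) {W : Submodule F V} (hW : ∀ w ∈ W, g w ∈ W) (hfix : W ⊓ fix g = ⊥) :
    Nat.card {v : V | v ∈ W ∧ Q v = 0} ≡ 1 [MOD l] := by
  have hV : Finite V := Module.finite_of_finite F
  have h1 := card_modEq hl hg {v : V | v ∈ W ∧ Q v = 0} (fun v hv => ⟨hW v hv.1, by rw [mem_O.1 hgQ]; exact hv.2⟩)
  have h2 : {v : V | v ∈ {v : V | v ∈ W ∧ Q v = 0} ∧ g v = v} = {0} := by
    ext v
    simp only [Set.mem_setOf_eq, Set.mem_singleton_iff]
    constructor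
    · rintro ⟨⟨h3, h4⟩, h5⟩
      have h6 : v ∈ W ⊓ fix g := ⟨h3, mem_fix.2 h5⟩
      rw [hfix] at h6
      exact h6
    · rintro rfl
      exact ⟨⟨W.zero_mem, map_zero Q⟩, map_zero g⟩
  rw [h2] at h1
  simpa using h1

/-- An isometry of odd order of an odd-dimensional nondegenerate invariant subspace fixes a nonzero vector -/
theorem exists_fix_odd [FiniteDimensional F V] (h2 : (2 : F) ≠ 0) {g : V ≃ₗ[F] V} (hgQ : g ∈ O Q) {l : ℕ}
    (hl : Odd l) (hg : g ^ l = 1) {W : Submodule F V} (hW : ∀ w ∈ W, g w ∈ W) (hN : ND Q W)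
    (hd : Odd (finrank F W)) : W ⊓ fix g ≠ ⊥ := by
  let B : W →ₗ[F] Dual F W := (W.subtype.dualMap ∘ₗ (polarBilin Q)) ∘ₗ W.subtype
  have hB : ∀ x y : W, B x y = polar Q (x : V) y := fun x y => rfl
  obtain ⟨y, hy0, hy⟩ := Cfsg.Agent.H858.TOrth.exists_fixed_of_odd (F := F) (D := W) hd h2 B (fun x hx0 => by
    by_contra hne
    obtain ⟨v, hv, hxv⟩ := hN x x.2 (fun h0 => hne (Subtype.ext h0))
    apply hxv
    rw [← hB x ⟨v, hv⟩, hx0]
    rfl) ((g : V →ₗ[F] V).restrict hW) (fun x y => by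
      rw [hB, hB]
      exact polar_map hgQ _ _) hl (by
      refine LinearMap.ext fun w => Subtype.ext ?_
      rw [Cfsg.Agent.H858.TOrth.restrict_pow, hg]
      rfl)
  intro h
  apply hy0
  have h3 : (y : V) ∈ W ⊓ fix g := ⟨y.2, mem_fix.2 (congrArg Subtype.val hy)⟩
  rw [h] at h3
  exact Subtype.ext h3

theorem ND.of_geo {ι : Type} [Fintype ι] [DecidableEq ι] {Q : QuadraticForm F (ι → F)}
    {W : Submodule F (ι → F)} (h : Cfsg.Geo.IsNondegenerateOn (polar (Q : (ι → F) → F)) W) : ND Q W :=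
  fun u hu h0 => (h u hu h0).2

/-- a totally singular subspace meets a nondegenerate line trivially -/
theorem ts_inf {W L : Submodule F V} (hW : ∀ w ∈ W, Q w = 0) (hL : ND Q L) (h1 : finrank F L = 1) :
    W ⊓ L = ⊥ := by
  rw [eq_bot_iff]
  rintro v ⟨hvW, hvL⟩
  rw [Submodule.mem_bot]
  by_contra hv
  obtain ⟨u, hu, huv⟩ := hL v hvL hv
  obtain ⟨c, hc⟩ := (finrank_eq_one_iff_of_nonzero' (⟨v, hvL⟩ : L) (fun h => hv (congrArg Subtype.val h))).1 h1
    ⟨u, hu⟩
  have hc' : c • v = u := congrArg Subtype.val hc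
  apply huv
  rw [← hc', polar_smul_right, polar_self_of_sing (hW v hvW), smul_zero]

/-- a totally singular subspace of a nondegenerate space has at most half the dimension -/
theorem ts_finrank [FiniteDimensional F V] {W L : Submodule F V} (hL : ND Q L) (hWL : W ≤ L) (hW : ∀ w ∈ W, Q w = 0) :
    2 * finrank F W ≤ finrank F L := by
  have hN : Nondeg (Cfsg.Agent.H883.Sub.res Q L) := by
    apply Cfsg.Agent.H883.Sub.NondegOn.res
    intro y hy h
    by_contra h0
    obtain ⟨v, hv, hyv⟩ := hL y hy h0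
    exact hyv (h v hv)
  let W' : Submodule F L := W.comap L.subtype
  have h1 : finrank F W' = finrank F W :=
    (LinearEquiv.finrank_eq (Submodule.comapSubtypeEquivOfLe hWL))
  have h2 := finrank_perp hN W'
  have h3 : W' ≤ perp (Cfsg.Agent.H883.Sub.res Q L) W' := by
    intro x hx
    rw [mem_perp']
    intro y hy
    have hx' : (x : V) ∈ W := hx
    have hy' : (y : V) ∈ W := hy
    have h4 : Q ((x : V) + (y : V)) = 0 := hW _ (W.add_mem hx' hy')
    rw [Q_add, hW _ hx', hW _ hy', zero_add, zero_add] at h4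
    exact h4
  have h4 := Submodule.finrank_mono h3
  omega

/-! ### invariant subspaces -/

section Inv

variable {g h : V ≃ₗ[F] V} {W U : Submodule F V}

theorem inv_perp (hgQ : g ∈ O Q) [FiniteDimensional F V] (hW : ∀ w ∈ W, g w ∈ W) : ∀ v ∈ perp Q W, g v ∈ perp Q W := by
  intro v hv
  rw [mem_perp'] at hv ⊢
  intro w hw
  -- `g` is surjective on `W`
  have h1 : W.map (g : V →ₗ[F] V) = W := by
    refine Submodule.eq_of_le_of_finrank_eq ?_ ?_
    · rintro _ ⟨x, hx, rfl⟩
      exact hW x hx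
    · exact LinearEquiv.finrank_map_eq g W
  rw [← h1] at hw
  obtain ⟨x, hx, rfl⟩ := hw
  change polar Q (g v) (g x) = 0
  rw [polar_map hgQ]
  exact hv x hx

theorem inv_inf (hW : ∀ w ∈ W, g w ∈ W) (hU : ∀ w ∈ U, g w ∈ U) : ∀ w ∈ W ⊓ U, g w ∈ W ⊓ U :=
  fun w hw => ⟨hW w hw.1, hU w hw.2⟩

theorem inv_fix (hc : g * h = h * g) : ∀ v ∈ fix h, g v ∈ fix h := by
  intro v hv
  rw [mem_fix] at hv ⊢
  have h1 : (h * g) v = (g * h) v := by rw [hc]
  change h (g v) = g (h v) at h1
  rw [h1, hv]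

theorem nd_top (hQ : Nondeg Q) : ND Q (⊤ : Submodule F V) := Cfsg.Agent.H858.TOrth.nd_top hQ

theorem nd_fix (hQ : Nondeg Q) (hgQ : g ∈ O Q) {n : ℕ} (hg : g ^ n = 1) (hn : (n : F) ≠ 0) : ND Q (fix g) := by
  have := (nd_top hQ).fix hgQ hg hn (fun _ _ => trivial)
  rwa [top_inf_eq] at this

theorem nd_on (hW : ND Q W) : Cfsg.Agent.H883.Sub.NondegOn Q W := by
  intro y hy h'
  by_contra h0
  obtain ⟨v, hv, hyv⟩ := hW y hy h0
  exact hyv (h' v hv)

theorem nd_perp [FiniteDimensional F V] (hQ : Nondeg Q) (hW : ND Q W) : ND Q (perp Q W) := by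
  have h1 := (nd_on hW).perp hQ
  intro y hy h0
  by_contra hcon
  push Not at hcon
  exact h0 (h1 y hy hcon)

theorem nd_inf_perp (hW : ND Q W) : W ⊓ perp Q W = ⊥ := by
  rw [eq_bot_iff]
  rintro v ⟨h1, h3⟩
  exact nd_on hW v h1 fun z hz => mem_perp'.1 h3 z hz

/-- unipotent elements have fixed vectors -/
theorem exists_fix_unip [Finite F] [FiniteDimensional F V] {p : ℕ} (hp : p.Prime) (hpF : p ∣ Nat.card F)
    (hg : g ^ p = 1) (hW : ∀ w ∈ W, g w ∈ W) (h0 : W ≠ ⊥) : W ⊓ fix g ≠ ⊥ := by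
  have hV : Finite V := Module.finite_of_finite F
  have h1 := card_modEq hp hg (W : Set V) hW
  have h2 : {v : V | v ∈ (W : Set V) ∧ g v = v} = ((W ⊓ fix g : Submodule F V) : Set V) := by
    ext v
    simp [mem_fix]
  rw [h2] at h1
  intro hbot
  rw [hbot] at h1
  change Nat.card W ≡ Nat.card (⊥ : Submodule F V) [MOD p] at h1
  have h3 : Nat.card (⊥ : Submodule F V) = 1 := by simp
  rw [h3, Module.natCard_eq_pow_finrank (K := F) (V := W)] at h1
  have h4 : 0 < finrank F W := Submodule.one_le_finrank_iff.2 h0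
  have h5 : p ∣ Nat.card F ^ finrank F W := hpF.trans (dvd_pow_self _ h4.ne')
  have h6 : p ∣ 1 := (Nat.modEq_zero_iff_dvd.1 (h1.symm.trans (Nat.modEq_zero_iff_dvd.2 h5)))
  exact hp.one_lt.ne' (Nat.dvd_one.1 h6)

/-- an invariant line with a fixed vector is fixed -/
theorem le_fix_of_one [FiniteDimensional F V] (h1 : finrank F W = 1) (h0 : W ⊓ fix g ≠ ⊥) : W ≤ fix g := by
  have h2 : 1 ≤ finrank F ↥(W ⊓ fix g) := Submodule.one_le_finrank_iff.2 h0
  have h3 : W ⊓ fix g = W := Submodule.eq_of_le_of_finrank_le inf_fix_le (by omega)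
  exact inf_eq_left.1 h3

theorem pow_unip {w x : V} (hw : g w = w) {a b : F} (hx : g x = a • x + b • w) (n : ℕ) :
    ∃ c : F, (g ^ n) x = a ^ n • x + c • w := by
  induction n with
  | zero => exact ⟨0, by simp⟩
  | succ n ih =>
    obtain ⟨c, hc⟩ := ih
    refine ⟨a ^ n * b + c, ?_⟩
    rw [pow_succ']
    change g ((g ^ n) x) = _
    rw [hc, map_add, map_smul, map_smul, hw, hx, pow_succ, add_smul, smul_add, smul_smul, smul_smul]
    abel

/-- an isometry of order `p` is trivial on a nondegenerate plane -/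
theorem plane_fix [Finite F] [FiniteDimensional F V] (h2 : (2 : F) ≠ 0) {p : ℕ} (hp : p.Prime) [CharP F p]
    (hpF : p ∣ Nat.card F) (hgQ : g ∈ O Q) (hg : g ^ p = 1) (hW : ∀ w ∈ W, g w ∈ W) (hN : ND Q W)
    (hd : finrank F W = 2) : W ≤ fix g := by
  have h0 : W ≠ ⊥ := by
    rintro rfl
    rw [finrank_bot] at hd
    omega
  obtain ⟨w, hw, hw0⟩ := Submodule.exists_mem_ne_zero_of_ne_bot (exists_fix_unip hp hpF hg hW h0)
  obtain ⟨hwW, hwf'⟩ := hw
  have hwf : g w = w := mem_fix.1 hwf'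
  by_contra hcon
  obtain ⟨x, hx, hxf⟩ := Set.not_subset.1 hcon
  change x ∈ W at hx
  have hxf' : g x ≠ x := fun h => hxf (mem_fix.2 h)
  have hxw : ∀ c : F, c • w ≠ x := by
    rintro c rfl
    apply hxf'
    rw [map_smul, hwf]
  -- `W = ⟨x, w⟩`
  have hspan : Submodule.span F {x, w} = W := by
    refine Submodule.eq_of_le_of_finrank_le ?_ ?_
    · rw [Submodule.span_le]
      rintro y (rfl | rfl)
      · exact hx
      · exact hwW
    · rw [hd]
      have hli : LinearIndependent F ![x, w] := by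
        rw [LinearIndependent.pair_iff' (fun h => hxf' (by rw [h, map_zero]))]
        intro a ha
        rcases eq_or_ne a 0 with rfl | ha0
        · rw [zero_smul] at ha
          exact hw0 ha.symm
        · exact hxw a⁻¹ (by rw [← ha, smul_smul, inv_mul_cancel₀ ha0, one_smul])
      have h3 := finrank_span_eq_card hli
      have h4 : Set.range ![x, w] = {x, w} := by
        simp [Matrix.range_cons, Matrix.range_empty, Set.pair_comm]
      rw [h4] at h3
      rw [h3]
      simp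
  have h3 : g x ∈ Submodule.span F {x, w} := by rw [hspan]; exact hW x hx
  obtain ⟨a, b, hab⟩ := Submodule.mem_span_pair.1 h3
  obtain ⟨c, hc⟩ := pow_unip hwf hab.symm p
  rw [hg] at hc
  change x = a ^ p • x + c • w at hc
  have ha : a ^ p = 1 := by
    by_contra hne
    have h4 : (1 - a ^ p) • x = c • w := by
      rw [sub_smul, one_smul, sub_eq_iff_eq_add, add_comm]
      exact hc
    exact hxw ((1 - a ^ p)⁻¹ * c) (by
      rw [← smul_smul, ← h4, smul_smul, inv_mul_cancel₀ (sub_ne_zero.2 (Ne.symm hne)), one_smul])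
  have ha1 : a = 1 := by
    have := Fact.mk hp
    have h4 : (a - 1) ^ p = 0 := by rw [sub_pow_char, ha, one_pow, sub_self]
    exact sub_eq_zero.1 (pow_eq_zero_iff hp.ne_zero |>.1 h4)
  rw [ha1, one_smul] at hab
  have hb : b ≠ 0 := by
    rintro rfl
    rw [zero_smul, add_zero] at hab
    exact hxf' hab.symm
  have h5 : polar Q (g x) (g w) = polar Q x w := polar_map hgQ x w
  rw [hwf, ← hab, polar_add_left, polar_smul_left, polar_self', smul_eq_mul] at h5
  have hQw : Q w = 0 := by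
    have : b * (2 * Q w) = 0 := by linear_combination h5
    rcases mul_eq_zero.1 this with h6 | h6
    · exact absurd h6 hb
    · exact (mul_eq_zero.1 h6).resolve_left h2
  have h6 : Q (g x) = Q x := mem_O.1 hgQ x
  rw [← hab, Q_add, QuadraticMap.map_smul, hQw, smul_zero, add_zero, polar_smul_right, smul_eq_mul] at h6
  have h7 : polar Q x w = 0 := by
    have : b * polar Q x w = 0 := by linear_combination h6
    exact (mul_eq_zero.1 this).resolve_left hb
  obtain ⟨v, hv, hwv⟩ := hN w hwW hw0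
  rw [← hspan] at hv
  obtain ⟨a', b', rfl⟩ := Submodule.mem_span_pair.1 hv
  apply hwv
  rw [polar_add_right, polar_smul_right, polar_smul_right, polar_self_of_sing hQw, polar_comm, h7, smul_zero,
    smul_zero, add_zero]

end Inv

end Cfsg.Agent.H327.COV
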