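import Cfsg.Agent.H327.COV.Lin

/-!
# Elements of prime order of the orthogonal group of a 7-dimensional space (S2499)
-/

set_option autoImplicit false

namespace Cfsg.Agent.H327.COV

open QuadraticMap Module
open Cfsg.Agent.LieClassical.OrthCore
open Cfsg.Agent.H858.TOrth (fix mem_fix ND)
open Cfsg.Agent.H883.Sub (perp mem_perp mem_perp' finrank_perp)

variable {F V : Type*} [Field F] [AddCommGroup V] [Module F V] {Q : QuadraticForm F V}
variable [Finite F] [FiniteDimensional F V] {l : ℕ} {g : V ≃ₗ[F] V} {W : Submodule F V}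

theorem fin_fix_lt (h7 : finrank F V = 7) (h1 : g ≠ 1) : finrank F (fix g) < 7 := by
  have h3 : finrank F (fix g) ≤ 7 := by rw [← h7]; exact Submodule.finrank_le _
  rcases h3.lt_or_eq with h | h
  · exact h
  · exact absurd (fix_eq_top (Submodule.eq_top_of_finrank_eq (by rw [h, h7]))) h1

theorem top_step {e : ℕ} (h7 : finrank F V = 7) (hl : Od (Nat.card F) e l) (hg : g ^ l = 1) :
    ∃ k, 7 = finrank F (fix g) + e * k := by
  obtain ⟨k, hk⟩ := hl.step hg (W := ⊤) (fun _ _ => trivial)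
  rw [finrank_top, h7, top_inf_eq] at hk
  exact ⟨k, hk⟩

theorem inf_le_fin : finrank F ↥(W ⊓ fix g) ≤ finrank F (fix g) := Submodule.finrank_mono inf_le_right

theorem inf_le_finW : finrank F ↥(W ⊓ fix g) ≤ finrank F W := Submodule.finrank_mono inf_le_left

/-! ### order 6 -/

theorem six_fix (h7 : finrank F V = 7) (hl : Od (Nat.card F) 6 l) (hg : g ^ l = 1) (h1 : g ≠ 1) :
    finrank F (fix g) = 1 := by
  obtain ⟨k, hk⟩ := top_step h7 hl hg
  have := fin_fix_lt h7 h1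
  omega

/-- no invariant totally singular subspace -/
theorem six_ts (hQ : Nondeg Q) (h7 : finrank F V = 7) (hl : Od (Nat.card F) 6 l) (hgQ : g ∈ O Q) (hg : g ^ l = 1)
    (h1 : g ≠ 1) (hW : ∀ w ∈ W, g w ∈ W) (hs : ∀ w ∈ W, Q w = 0) : W = ⊥ := by
  have hc := Cfsg.Agent.H858.TOrth.cast_ne_zero hl.prime hl.nd
  have h3 := ts_inf hs (nd_fix hQ hgQ hg hc) (six_fix h7 hl hg h1)
  obtain ⟨k, hk⟩ := hl.step hg hW
  rw [h3, finrank_bot] at hk
  have h4 := ts_finrank (nd_top hQ) (le_top : W ≤ ⊤) hs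
  rw [finrank_top, h7] at h4
  exact Submodule.finrank_eq_zero.1 (by omega)

/-- invariant subspaces of even dimension -/
theorem six_even (h7 : finrank F V = 7) (hl : Od (Nat.card F) 6 l) (hg : g ^ l = 1)
    (h1 : g ≠ 1) (hW : ∀ w ∈ W, g w ∈ W) (he : Even (finrank F W)) (h0 : W ≠ ⊥) :
    finrank F W = 6 ∧ W ⊓ fix g = ⊥ := by
  have h3 := six_fix h7 hl hg h1
  have h4 : finrank F ↥(W ⊓ fix g) ≤ 1 := by rw [← h3]; exact inf_le_fin
  obtain ⟨k, hk⟩ := hl.step hg hW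
  have h5 : 0 < finrank F W := Submodule.one_le_finrank_iff.2 h0
  have h6 : finrank F W ≤ 7 := by rw [← h7]; exact Submodule.finrank_le _
  obtain ⟨r, hr⟩ := he
  have h8 : finrank F W = 6 ∧ finrank F ↥(W ⊓ fix g) = 0 := by omega
  exact ⟨h8.1, Submodule.finrank_eq_zero.1 h8.2⟩

/-! ### order 4 -/

theorem four_fix (h7 : finrank F V = 7) (hl : Od (Nat.card F) 4 l) (hg : g ^ l = 1) (h1 : g ≠ 1) :
    finrank F (fix g) = 3 ∨ finrank F (fix g) = 3 := by
  obtain ⟨k, hk⟩ := top_step h7 hl hg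
  have := fin_fix_lt h7 h1
  omega

theorem four_fix' (h7 : finrank F V = 7) (hl : Od (Nat.card F) 4 l) (hg : g ^ l = 1) (h1 : g ≠ 1) :
    finrank F (fix g) = 3 := (four_fix h7 hl hg h1).elim id id

/-- invariant totally singular subspaces -/
theorem four_ts (hQ : Nondeg Q) (h7 : finrank F V = 7) (hl : Od (Nat.card F) 4 l) (hgQ : g ∈ O Q) (hg : g ^ l = 1)
    (h1 : g ≠ 1) (hW : ∀ w ∈ W, g w ∈ W) (hs : ∀ w ∈ W, Q w = 0) (h0 : W ≠ ⊥) : finrank F W = 1 := by
  have hc := Cfsg.Agent.H858.TOrth.cast_ne_zero hl.prime hl.nd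
  have h3 := four_fix' h7 hl hg h1
  have h5 := ts_finrank (nd_fix hQ hgQ hg hc) (inf_le_right : W ⊓ fix g ≤ fix g) (fun w hw => hs w hw.1)
  obtain ⟨k, hk⟩ := hl.step hg hW
  have h4 := ts_finrank (nd_top hQ) (le_top : W ≤ ⊤) hs
  rw [finrank_top, h7] at h4
  have h6 : 0 < finrank F W := Submodule.one_le_finrank_iff.2 h0
  omega

/-- nondegenerate invariant subspaces of even dimension, in the presence of a commuting element of order `p` -/
theorem four_even (hQ : Nondeg Q) (h7 : finrank F V = 7) (h2 : (2 : F) ≠ 0) (hl : Od (Nat.card F) 4 l)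
    (hgQ : g ∈ O Q) (hg : g ^ l = 1) (h1 : g ≠ 1) {p : ℕ} (hp : p.Prime) [CharP F p] (hpF : p ∣ Nat.card F)
    {u : V ≃ₗ[F] V} (huQ : u ∈ O Q) (hu : u ^ p = 1) (hu1 : u ≠ 1) (hc : g * u = u * g)
    (hW : ∀ w ∈ W, g w ∈ W) (hWu : ∀ w ∈ W, u w ∈ W) (hN : ND Q W) (he : Even (finrank F W)) (h0 : W ≠ ⊥) :
    finrank F W = 2 ∨ finrank F W = 4 := by
  have hcl := Cfsg.Agent.H858.TOrth.cast_ne_zero hl.prime hl.nd
  have h3 := four_fix' h7 hl hg h1
  have h5 : 0 < finrank F W := Submodule.one_le_finrank_iff.2 h0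
  have h6 : finrank F W ≤ 7 := by rw [← h7]; exact Submodule.finrank_le _
  by_contra hcon
  have h66 : finrank F W = 6 := by
    obtain ⟨r, hr⟩ := he
    omega
  -- the plane `X = W ∩ C(g)`
  have hX : finrank F ↥(W ⊓ fix g) = 2 := by
    obtain ⟨k, hk⟩ := hl.step hg hW
    have h8 : finrank F ↥(W ⊓ fix g) ≤ 3 := by rw [← h3]; exact inf_le_fin
    omega
  have hXN : ND Q (W ⊓ fix g) := hN.fix hgQ hg hcl hW
  have hXu : ∀ w ∈ W ⊓ fix g, u w ∈ W ⊓ fix g := inv_inf hWu (inv_fix hc.symm)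
  have hXf : W ⊓ fix g ≤ fix u := plane_fix h2 hp hpF huQ hu hXu hXN hX
  -- the line `L = W^⊥`
  have hL : finrank F (perp Q W) = 1 := by
    have := finrank_perp hQ W
    omega
  have hL0 : perp Q W ≠ ⊥ := by
    intro h
    rw [h, finrank_bot] at hL
    omega
  have hLg : perp Q W ≤ fix g := by
    obtain ⟨k, hk⟩ := hl.step hg (inv_perp hgQ hW)
    refine le_fix_of_one hL fun h => ?_
    rw [h, finrank_bot] at hk
    omega
  have hLu : perp Q W ≤ fix u := le_fix_of_one hL (exists_fix_unip hp hpF hu (inv_perp huQ hWu) hL0)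
  -- `C(g) ≤ C(u)`
  have h8 : fix g ≤ fix u := by
    have h9 : (W ⊓ fix g) ⊔ perp Q W = fix g := by
      refine Submodule.eq_of_le_of_finrank_le (sup_le inf_le_right hLg) ?_
      have h10 := Submodule.finrank_sup_add_finrank_inf_eq (W ⊓ fix g) (perp Q W)
      have h11 : (W ⊓ fix g) ⊓ perp Q W = ⊥ := by
        rw [eq_bot_iff, ← nd_inf_perp hN]
        exact inf_le_inf_right _ inf_le_left
      rw [h11, finrank_bot] at h10
      omega
    rw [← h9]
    exact sup_le hXf hLu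
  obtain ⟨k, hk⟩ := hl.step hg (W := fix u) (inv_fix hc)
  rw [inf_eq_right.2 h8, h3] at hk
  have h9 := fin_fix_lt h7 hu1
  have h10 : fix g = fix u := Submodule.eq_of_le_of_finrank_le h8 (by omega)
  -- a fixed vector of `u` on `C(g)^⊥`
  have h11 : finrank F (perp Q (fix g)) = 4 := by
    have := finrank_perp hQ (fix g)
    omega
  have h12 : perp Q (fix g) ≠ ⊥ := by
    intro h
    rw [h, finrank_bot] at h11
    omega
  apply exists_fix_unip hp hpF hu (inv_perp huQ (inv_fix hc.symm)) h12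
  rw [← h10, inf_comm]
  exact nd_inf_perp (nd_fix hQ hgQ hg hcl)

/-! ### order 3 -/

theorem three_fix (hQ : Nondeg Q) (h7 : finrank F V = 7) (h2 : (2 : F) ≠ 0) (hl : Od (Nat.card F) 3 l) (hl2 : Odd l)
    (hgQ : g ∈ O Q) (hg : g ^ l = 1) (h1 : g ≠ 1) : finrank F (fix g) = 1 := by
  have hcl := Cfsg.Agent.H858.TOrth.cast_ne_zero hl.prime hl.nd
  obtain ⟨k, hk⟩ := top_step h7 hl hg
  have h3 := fin_fix_lt h7 h1
  by_contra hcon
  have h4 : finrank F (fix g) = 4 := by omega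
  have h5 : finrank F (perp Q (fix g)) = 3 := by
    have := finrank_perp hQ (fix g)
    omega
  have hN := nd_fix hQ hgQ hg hcl
  apply exists_fix_odd h2 hgQ hl2 hg (inv_perp hgQ (inv_fix rfl)) (nd_perp hQ hN) (by rw [h5]; decide)
  rw [inf_comm]
  exact nd_inf_perp hN

/-- no invariant singular line -/
theorem three_line (hQ : Nondeg Q) (h7 : finrank F V = 7) (h2 : (2 : F) ≠ 0) (hl : Od (Nat.card F) 3 l) (hl2 : Odd l)
    (hgQ : g ∈ O Q) (hg : g ^ l = 1) (h1 : g ≠ 1) (hW : ∀ w ∈ W, g w ∈ W) (hs : ∀ w ∈ W, Q w = 0) :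
    finrank F W ≠ 1 := by
  intro h
  have hcl := Cfsg.Agent.H858.TOrth.cast_ne_zero hl.prime hl.nd
  obtain ⟨k, hk⟩ := hl.step hg hW
  rw [ts_inf hs (nd_fix hQ hgQ hg hcl) (three_fix hQ h7 h2 hl hl2 hgQ hg h1), finrank_bot] at hk
  omega

/-- no invariant nondegenerate subspace of dimension 2 or 4 -/
theorem three_even (hQ : Nondeg Q) (h7 : finrank F V = 7) (h2 : (2 : F) ≠ 0) (hl : Od (Nat.card F) 3 l) (hl2 : Odd l)
    (hgQ : g ∈ O Q) (hg : g ^ l = 1) (h1 : g ≠ 1) (hW : ∀ w ∈ W, g w ∈ W) (hN : ND Q W) :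
    finrank F W ≠ 2 ∧ finrank F W ≠ 4 := by
  have hcl := Cfsg.Agent.H858.TOrth.cast_ne_zero hl.prime hl.nd
  have h3 := three_fix hQ h7 h2 hl hl2 hgQ hg h1
  obtain ⟨k, hk⟩ := hl.step hg hW
  have h4 : finrank F ↥(W ⊓ fix g) ≤ 1 := by rw [← h3]; exact inf_le_fin
  constructor
  · intro h
    omega
  · intro h
    have h5 : finrank F ↥(W ⊓ fix g) = 1 := by omega
    have h6 : fix g ≤ W := by
      have : W ⊓ fix g = fix g := Submodule.eq_of_le_of_finrank_le inf_le_right (by omega)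
      exact inf_eq_right.1 this
    have h8 : finrank F (perp Q W) = 3 := by
      have := finrank_perp hQ W
      omega
    apply exists_fix_odd h2 hgQ hl2 hg (inv_perp hgQ hW) (nd_perp hQ hN) (by rw [h8]; decide)
    rw [eq_bot_iff, ← nd_inf_perp hN, inf_comm]
    exact inf_le_inf_right _ h6

/-- on an invariant subspace of dimension 6 there are no fixed vectors -/
theorem three_six (hQ : Nondeg Q) (h7 : finrank F V = 7) (h2 : (2 : F) ≠ 0) (hl : Od (Nat.card F) 3 l) (hl2 : Odd l)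
    (hgQ : g ∈ O Q) (hg : g ^ l = 1) (h1 : g ≠ 1) (hW : ∀ w ∈ W, g w ∈ W) (h6 : finrank F W = 6) :
    W ⊓ fix g = ⊥ := by
  have h3 := three_fix hQ h7 h2 hl hl2 hgQ hg h1
  obtain ⟨k, hk⟩ := hl.step hg hW
  have h4 : finrank F ↥(W ⊓ fix g) ≤ 1 := by rw [← h3]; exact inf_le_fin
  exact Submodule.finrank_eq_zero.1 (by omega)

end Cfsg.Agent.H327.COV
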