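import Mathlib
import Cfsg.Agent.Lib.Zsigmondy
import Cfsg.Agent.H327.COV.Seven

/-!
# Numbers for `NoTwo (Ω₇(q))` (S2499)
-/

set_option autoImplicit false

namespace Cfsg.Agent.H327.COV

/-- a primitive prime divisor of `p ^ (e f) - 1` -/
structure Zp (p f e l : ℕ) : Prop where
  prime : l.Prime
  iff : ∀ m, l ∣ p ^ m - 1 ↔ e * f ∣ m
  gt : e * f < l
  nd : ¬ l ∣ p

theorem exists_zp {p f e : ℕ} (hp : p.Prime) (hp2 : p ≠ 2) (hf : 1 ≤ f) (he : 3 ≤ e) : ∃ l, Zp p f e l := by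
  have h3 : 3 ≤ e * f := he.trans (Nat.le_mul_of_pos_right e hf)
  obtain ⟨l, hl, h1, h4, h5⟩ := Cfsg.Agent.Lib.Zsigmondy.exists_primitive (a := p) (n := e * f) hp.two_le (by omega)
    (by omega) (fun h => hp2 h.1)
  refine ⟨l, hl, h1, ?_, h5⟩
  have := Nat.le_of_dvd (by have := hl.two_le; omega) h4
  have := hl.two_le
  omega

variable {p f e l : ℕ}

theorem Zp.od (h : Zp p f e l) (hf : 1 ≤ f) : Od (p ^ f) e l := by
  refine ⟨h.prime, fun h1 => h.nd (h.prime.dvd_of_dvd_pow h1), fun m hm => ?_⟩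
  rw [← pow_mul, h.iff] at hm
  obtain ⟨c, hc⟩ := hm
  refine ⟨c, ?_⟩
  apply Nat.eq_of_mul_eq_mul_left (show 0 < f by omega)
  rw [hc]
  ring

theorem Zp.iff_q (h : Zp p f e l) (hf : 1 ≤ f) (m : ℕ) : l ∣ (p ^ f) ^ m - 1 ↔ e ∣ m := by
  refine ⟨(h.od hf).dvd m, ?_⟩
  rintro ⟨c, rfl⟩
  rw [← pow_mul, h.iff]
  exact ⟨c, by ring⟩

theorem Zp.odd (h : Zp p f e l) (hf : 1 ≤ f) (he : 3 ≤ e) : Odd l := by
  apply h.prime.odd_of_ne_two
  have := h.gt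
  have h3 : 3 ≤ e * f := he.trans (Nat.le_mul_of_pos_right e hf)
  omega

theorem Zp.dvd_add {k : ℕ} (h : Zp p f (2 * k) l) (hf : 1 ≤ f) (hk : 1 ≤ k) : l ∣ (p ^ f) ^ k + 1 := by
  have h1 : l ∣ (p ^ f) ^ (2 * k) - 1 := (h.iff_q hf _).2 dvd_rfl
  have h2 : (p ^ f) ^ (2 * k) - 1 = ((p ^ f) ^ k + 1) * ((p ^ f) ^ k - 1) := by
    rw [mul_comm 2 k, pow_mul, ← Nat.sq_sub_sq, one_pow]
  rw [h2, h.prime.dvd_mul] at h1
  rcases h1 with h1 | h1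
  · exact h1
  · have := Nat.le_of_dvd (by omega) ((h.iff_q hf _).1 h1)
    omega

theorem Zp.dvd_half {k : ℕ} (h : Zp p f (2 * k) l) (hp : Odd p) (hf : 1 ≤ f) (hk : 2 ≤ k) :
    l ∣ ((p ^ f) ^ k + 1) / 2 := by
  have h1 := h.dvd_add hf (by omega)
  have h2 : Odd ((p ^ f) ^ k) := (hp.pow).pow
  obtain ⟨j, hj⟩ := h2
  have h3 : (p ^ f) ^ k + 1 = 2 * (j + 1) := by omega
  rw [h3] at h1 ⊢
  rw [Nat.mul_div_cancel_left _ (by norm_num)]
  rcases h.prime.dvd_mul.1 h1 with h4 | h4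
  · have h5 := h.odd hf (by omega)
    rw [(Nat.prime_dvd_prime_iff_eq h.prime Nat.prime_two).1 h4] at h5
    exact absurd h5 (by decide)
  · exact h4

theorem half_eq {q k : ℕ} (hq : Odd q) : q ^ k + 1 = 2 * ((q ^ k + 1) / 2) := by
  obtain ⟨j, hj⟩ := hq.pow (n := k)
  omega

theorem half_eq' {q k : ℕ} (hq : Odd q) : q ^ k - 1 = 2 * ((q ^ k - 1) / 2) := by
  obtain ⟨j, hj⟩ := hq.pow (n := k)
  omega

/-- the subfield case -/
theorem Zp.not_sub (h : Zp p f e l) (hp : p.Prime) (hf : 1 ≤ f) (he : 4 ≤ e) {a r : ℕ} (hr : r.Prime)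
    (ha : p ^ f = a ^ r) : ¬ ∃ i, 1 ≤ i ∧ i ≤ 7 ∧ l ∣ a ^ i - 1 := by
  rintro ⟨i, hi1, hi7, hd⟩
  obtain ⟨b, hb⟩ : ∃ b, a = p ^ b := by
    have h1 : a ∣ p ^ f := by rw [ha]; exact dvd_pow_self _ hr.ne_zero
    obtain ⟨b, -, hb⟩ := (Nat.dvd_prime_pow hp).1 h1
    exact ⟨b, hb⟩
  rw [hb, ← pow_mul] at ha hd
  have h3 : f = b * r := Nat.pow_right_injective hp.two_le ha
  rw [h.iff] at hd
  have hb0 : 0 < b := by
    rcases Nat.eq_zero_or_pos b with rfl | h4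
    · omega
    · exact h4
  have h4 := Nat.le_of_dvd (by positivity) hd
  have h5 := hr.two_le
  have h6 : e * f ≤ b * 7 := h4.trans (Nat.mul_le_mul_left _ hi7)
  rw [h3] at h6
  have h7 : 4 * (b * 2) ≤ e * (b * r) := Nat.mul_le_mul he (Nat.mul_le_mul_left _ h5)
  omega

theorem Zp.not_one (h : Zp p f e l) (hf : 1 ≤ f) (he : 2 ≤ e) : ¬ l ∣ p ^ f - 1 := by
  intro h1
  have h2 : l ∣ (p ^ f) ^ 1 - 1 := by rwa [pow_one]
  have := Nat.le_of_dvd one_pos ((h.iff_q hf 1).1 h2)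
  omega

/-- the prime case, `A` -/
theorem frame_A {q : ℕ} (hq : 5 ≤ q) (hodd : Odd q) (h : (q ^ 3 + 1) / 2 ∣ 840) : False := by
  have h1 := Nat.le_of_dvd (by norm_num) h
  have h2 := half_eq (k := 3) hodd
  have h3 : q ≤ 11 := by
    by_contra hcon
    push Not at hcon
    have : 12 ^ 3 ≤ q ^ 3 := Nat.pow_le_pow_left hcon 3
    omega
  interval_cases q <;> revert h <;> norm_num

theorem frame_B {q : ℕ} (hq : 5 ≤ q) (hodd : Odd q) (h : q * ((q ^ 2 + 1) / 2) ∣ 840) : False := by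
  have h1 := Nat.le_of_dvd (by norm_num) h
  have h2 := half_eq (k := 2) hodd
  have h3 : q ≤ 12 := by
    by_contra hcon
    push Not at hcon
    have h4 : 13 ^ 2 ≤ q ^ 2 := Nat.pow_le_pow_left hcon 2
    have h5 : 85 ≤ (q ^ 2 + 1) / 2 := by omega
    have h6 : 13 * 85 ≤ q * ((q ^ 2 + 1) / 2) := Nat.mul_le_mul hcon h5
    omega
  interval_cases q <;> revert h <;> norm_num

/-- the numbers for `G₂(q)`, `A` -/
theorem g2_A {n : ℕ} (hp : p.Prime) (hp2 : p ≠ 2) (hf : 1 ≤ f) (hq5 : 5 ≤ p ^ f) (hl : Zp p f 6 l)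
    (hn : n ∣ p * (p ^ f + 1) ∨ n ∣ p * (p ^ f - 1) ∨ n ∣ p ^ (2 * f) - 1 ∨
      n ∣ p ^ (2 * f) + p ^ f + 1 ∨ n ∣ p ^ (2 * f) - p ^ f + 1 ∨ n ∣ p ^ 2)
    (hln : l ∣ n) (hle : ((p ^ f) ^ 3 + 1) / 2 ≤ n * (2 * f)) : False := by
  have hq1 : 1 ≤ p ^ f := by omega
  have hodd : Odd (p ^ f) := (hp.odd_of_ne_two hp2).pow
  have e2 : p ^ (2 * f) = (p ^ f) ^ 2 := by rw [mul_comm, pow_mul]
  have k2 : ¬ l ∣ (p ^ f) ^ 2 - 1 := by
    rw [hl.iff_q hf]; norm_num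
  have k1 : ¬ l ∣ p ^ f + 1 := fun h => k2 (by
    have : (p ^ f) ^ 2 - 1 = (p ^ f + 1) * (p ^ f - 1) := by rw [← Nat.sq_sub_sq, one_pow]
    rw [this]
    exact Dvd.dvd.mul_right h _)
  have k3 : ¬ l ∣ (p ^ f) ^ 3 - 1 := by
    rw [hl.iff_q hf]; norm_num
  rw [e2] at hn
  rcases hn with h | h | h | h | h | h
  · rcases hl.prime.dvd_mul.1 (hln.trans h) with h1 | h1
    · exact hl.nd h1
    · exact k1 h1
  · rcases hl.prime.dvd_mul.1 (hln.trans h) with h1 | h1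
    · exact hl.nd h1
    · exact hl.not_one hf (by norm_num) h1
  · exact k2 (hln.trans h)
  · apply k3
    obtain ⟨c, hc⟩ : ∃ c, p ^ f = c + 1 := ⟨p ^ f - 1, by omega⟩
    have : (p ^ f) ^ 3 - 1 = ((p ^ f) ^ 2 + p ^ f + 1) * c := by
      rw [hc]
      have : (c + 1) ^ 3 = ((c + 1) ^ 2 + (c + 1) + 1) * c + 1 := by ring
      omega
    rw [this]
    exact Dvd.dvd.mul_right (hln.trans h) _
  · have hpos : 0 < (p ^ f) ^ 2 - p ^ f + 1 := by omega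
    have h1 := Nat.le_of_dvd hpos h
    have h2 := half_eq (k := 3) hodd
    have h3 : (p ^ f) ^ 3 + 1 = (p ^ f + 1) * ((p ^ f) ^ 2 - p ^ f + 1) := by
      obtain ⟨c, hc⟩ : ∃ c, p ^ f = c + 1 := ⟨p ^ f - 1, by omega⟩
      rw [hc]
      have : (c + 1) ^ 2 - (c + 1) = c ^ 2 + c := by
        have : (c + 1) ^ 2 = c ^ 2 + c + (c + 1) := by ring
        omega
      rw [this]
      ring
    have h4 : (p ^ f + 1) * ((p ^ f) ^ 2 - p ^ f + 1) ≤ (4 * f) * ((p ^ f) ^ 2 - p ^ f + 1) := by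
      rw [← h3, h2]
      calc 2 * (((p ^ f) ^ 3 + 1) / 2) ≤ 2 * (n * (2 * f)) := Nat.mul_le_mul_left _ hle
        _ = (4 * f) * n := by ring
        _ ≤ _ := Nat.mul_le_mul_left _ h1
    have h5 : p ^ f + 1 ≤ 4 * f := Nat.le_of_mul_le_mul_right h4 hpos
    have h6 : 3 ≤ p := by have := hp.two_le; omega
    have h7 : 3 ^ f ≤ p ^ f := Nat.pow_le_pow_left h6 f
    have h8 : ∀ k, 4 * (k + 2) < 3 ^ (k + 2) + 1 := by
      intro k
      induction k with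
      | zero => norm_num
      | succ k ih =>
        rw [pow_succ]
        omega
    rcases Nat.lt_or_ge f 2 with h9 | h9
    · obtain rfl : f = 1 := by omega
      omega
    · have := h8 (f - 2)
      rw [show f - 2 + 2 = f by omega] at this
      omega
  · exact hl.nd (hl.prime.dvd_of_dvd_pow (hln.trans h))

/-- the numbers for `G₂(q)`, `B` -/
theorem g2_B {n : ℕ} (hf : 1 ≤ f) (hq5 : 5 ≤ p ^ f) (hl : Zp p f 4 l)
    (hn : n ∣ p * (p ^ f + 1) ∨ n ∣ p * (p ^ f - 1) ∨ n ∣ p ^ (2 * f) - 1 ∨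
      n ∣ p ^ (2 * f) + p ^ f + 1 ∨ n ∣ p ^ (2 * f) - p ^ f + 1 ∨ n ∣ p ^ 2)
    (hln : l ∣ n) : False := by
  have e2 : p ^ (2 * f) = (p ^ f) ^ 2 := by rw [mul_comm, pow_mul]
  have k2 : ¬ l ∣ (p ^ f) ^ 2 - 1 := by
    rw [hl.iff_q hf]; norm_num
  have k1 : ¬ l ∣ p ^ f + 1 := fun h => k2 (by
    have : (p ^ f) ^ 2 - 1 = (p ^ f + 1) * (p ^ f - 1) := by rw [← Nat.sq_sub_sq, one_pow]
    rw [this]
    exact Dvd.dvd.mul_right h _)
  have k3 : ¬ l ∣ (p ^ f) ^ 3 - 1 := by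
    rw [hl.iff_q hf]; norm_num
  have k6 : ¬ l ∣ (p ^ f) ^ 6 - 1 := by
    rw [hl.iff_q hf]; norm_num
  rw [e2] at hn
  obtain ⟨c, hc⟩ : ∃ c, p ^ f = c + 1 := ⟨p ^ f - 1, by omega⟩
  rcases hn with h | h | h | h | h | h
  · rcases hl.prime.dvd_mul.1 (hln.trans h) with h1 | h1
    · exact hl.nd h1
    · exact k1 h1
  · rcases hl.prime.dvd_mul.1 (hln.trans h) with h1 | h1
    · exact hl.nd h1
    · exact hl.not_one hf (by norm_num) h1
  · exact k2 (hln.trans h)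
  · apply k3
    have : (p ^ f) ^ 3 - 1 = ((p ^ f) ^ 2 + p ^ f + 1) * c := by
      rw [hc]
      have : (c + 1) ^ 3 = ((c + 1) ^ 2 + (c + 1) + 1) * c + 1 := by ring
      omega
    rw [this]
    exact Dvd.dvd.mul_right (hln.trans h) _
  · apply k6
    have h3 : (p ^ f) ^ 3 + 1 = ((p ^ f) ^ 2 - p ^ f + 1) * (p ^ f + 1) := by
      rw [hc]
      have : (c + 1) ^ 2 - (c + 1) = c ^ 2 + c := by
        have : (c + 1) ^ 2 = c ^ 2 + c + (c + 1) := by ring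
        omega
      rw [this]
      ring
    have h4 : (p ^ f) ^ 6 - 1 = ((p ^ f) ^ 3 + 1) * ((p ^ f) ^ 3 - 1) := by
      rw [← Nat.sq_sub_sq, one_pow, ← pow_mul (p ^ f) 3 2]
    rw [h4, h3]
    exact ((hln.trans h).mul_right _).mul_right _
  · exact hl.nd (hl.prime.dvd_of_dvd_pow (hln.trans h))

end Cfsg.Agent.H327.COV
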