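import Cfsg.Agent.H327.COV.Big
import Cfsg.Agent.H327.COV.G23
import Cfsg.Agent.H327.COV.Idx
import Cfsg.Agent.S2119

/-!
# The residual subgroups of `Ω₇(3)` (S2499)
-/

set_option autoImplicit false

namespace Cfsg.Agent.H327.COV

open QuadraticMap Module Cfsg Cfsg.Geo Cfsg.Agent.H278.Cov
open Cfsg.Agent.LieClassical.OrthCore Cfsg.Agent.LieClassical.OrthFinite Cfsg.Agent.LieClassical.OmegaReindex
open Cfsg.Agent.H884.El (pre)
open Cfsg.Agent.H833.RS.O73 (finrank_seven nondeg_odd perm_ne_18)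
open scoped MatrixGroups Matrix

abbrev K3 := ZMod 3

abbrev G3 := POmega K3 ⇑(quadOdd 3 K3)

theorem no_double' (M : Subgroup G3) : Nat.card M ≠ 2 * 4245696 := by
  have key : ∀ Q : (I7 → K3) → K3, Q = quadFormOdd 3 K3 → ∀ M : Subgroup (POmega K3 Q), Nat.card M ≠ 2 * 4245696 := by
    rintro _ rfl
    exact no_double
  exact key _ (coe_quadOdd 3 K3) M

theorem alt_orders {M : Type} [Group M] [Finite M] {S : Subgroup M} [S.Normal]
    (hC : Subgroup.centralizer (S : Set M) = ⊥) (e : S ≃* alternatingGroup (Fin 9)) (x : M) :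
    orderOf x ≠ 13 ∧ orderOf x ≠ 18 := by
  have hinj : Function.Injective (MulAut.conjNormal : M →* MulAut S) := by
    rw [← MonoidHom.ker_eq_bot_iff, eq_bot_iff]
    intro x hx
    rw [← hC, Subgroup.mem_centralizer_iff]
    intro y hy
    have h1 := DFunLike.congr_fun ((MonoidHom.mem_ker).1 hx) ⟨y, hy⟩
    have h2 := congrArg Subtype.val h1
    rw [MulAut.conjNormal_apply, MulAut.one_apply] at h2
    exact (mul_inv_eq_iff_eq_mul.1 h2).symm
  have hb := Cfsg.Agent.S2119.result 9 (by norm_num) (by norm_num)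
  obtain ⟨σ, hσ⟩ := hb.2 (MulAut.congr e (MulAut.conjNormal x))
  have h1 : orderOf σ = orderOf x := by
    rw [← orderOf_injective _ hb.1 σ, hσ]
    have h2 := orderOf_injective (MulAut.congr e).toMonoidHom (MulAut.congr e).injective (MulAut.conjNormal x : MulAut S)
    rw [← orderOf_injective _ hinj x, ← h2]
    rfl
  rw [← h1]
  refine ⟨fun h => ?_, perm_ne_18 le_rfl σ⟩
  have h2 := orderOf_dvd_card (x := σ)
  rw [h, Fintype.card_perm, Fintype.card_fin] at h2
  revert h2
  decide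

/-- **the residual class**: element orders -/
theorem res_three {M : Subgroup G3}
    (hmax : IsMaximalIn (omegaGL (quadFormOdd 3 K3)) (pre (⇑(quadOdd 3 K3)) M))
    (hres : InOrthogonalResidualClass (pre (⇑(quadOdd 3 K3)) M)) :
    (∀ x ∈ M, orderOf x ≠ 13 ∧ orderOf x ≠ 18) ∨
    (∀ x ∈ M, orderOf x ≠ 14 ∧ orderOf x ≠ 15 ∧ orderOf x ≠ 18) := by
  have hodd : Odd (Fintype.card K3) := by decide
  have h2 : (2 : K3) ≠ 0 := by decide
  have hfin : Finite G3 := Quotient.finite _
  obtain ⟨P, hP, h⟩ := Cfsg.Agent.S5815.result hodd _ hmax hres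
  obtain ⟨S, hSn, -, -, hSC, ⟨e⟩⟩ := Cfsg.Agent.H264.FKS.exists_res_omega (quadOdd_nondegenerate h2)
    (by simp only [Fintype.card_sum, Fintype.card_fin, Fintype.card_unit]; omega)
    (quadOdd_isotropic (by omega)) (M := M) hP
  rcases h with ⟨⟨e'⟩, h3⟩ | ⟨⟨e'⟩, h3⟩ | ⟨e'⟩
  · left
    intro x hx
    have h4 := alt_orders hSC (e.trans e') ⟨x, hx⟩
    rwa [Subgroup.orderOf_mk] at h4
  · left
    intro x hx
    have h3 := pow_mem_of_out (k := 1) hSC
      (out_congr (e.trans e') (fun α => by rw [pow_one]; exact Cfsg.Agent.KFacts.Co3.AutM.aut_PSp α)) ⟨x, hx⟩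
    rw [pow_one] at h3
    have h5 := orders_Sp62 ((e.trans e') ⟨_, h3⟩)
    rw [MulEquiv.orderOf_eq, Subgroup.orderOf_mk, Subgroup.orderOf_mk] at h5
    simp only [Cfsg.Agent.H359.Om, Finset.mem_insert, Finset.mem_singleton] at h5
    omega
  · right
    obtain ⟨e'⟩ := e'
    obtain ⟨e''⟩ := Cfsg.Agent.H638.G2Iso.equiv (F := K3)
    have eG : S ≃* ↥(Lie.chevG2.group K3) := (e.trans e').trans e''
    have hcS : Nat.card S = 4245696 := by
      rw [Nat.card_congr eG.toEquiv]
      exact Cfsg.Agent.OddHalf.Small.G23.card_G.trans (by norm_num)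
    have hidx : S.index ∣ 2 := by
      have h5 := Cfsg.Agent.H816.OutEmb.index_dvd S (by rw [hSC]; exact bot_le)
      obtain ⟨o⟩ := Cfsg.Agent.H816.OutEmb.out_congr eG
      have := Fact.mk Nat.prime_three
      rw [Nat.card_congr o.toEquiv, Cfsg.Agent.S2121.result 3 1 (by rw [ZMod.card, pow_one]) (by norm_num)] at h5
      simpa using h5
    have htop : S = ⊤ := by
      rw [← Subgroup.index_eq_one]
      rcases (Nat.dvd_prime Nat.prime_two).1 hidx with h5 | h5
      · exact h5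
      · exfalso
        apply no_double' M
        rw [← S.index_mul_card, h5, hcS]
    intro x hx
    have hxS : (⟨x, hx⟩ : M) ∈ S := by rw [htop]; trivial
    have h6 : orderOf (eG ⟨_, hxS⟩) = orderOf x := by
      rw [MulEquiv.orderOf_eq, Subgroup.orderOf_mk, Subgroup.orderOf_mk]
    rw [← h6]
    exact ⟨G23.not_14 _, G23.not_15 _, G23.not_18 _⟩

end Cfsg.Agent.H327.COV
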