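import Cfsg.Agent.H327.COV.ResThree
import Cfsg.Agent.H327.COV.Grp3
import Cfsg.Agent.H327.COV.El18
import Cfsg.Agent.UGT.U2.Rec.Congr

/-!
# `NoTwo (Ω₇(3))` and `NoTwo (Ω₇(q))` (S2499)
-/

set_option autoImplicit false

namespace Cfsg.Agent.H327.COV

open QuadraticMap Module Cfsg Cfsg.Geo Cfsg.Agent.H278.Cov
open Cfsg.Agent.LieClassical.OrthCore Cfsg.Agent.LieClassical.OrthFinite Cfsg.Agent.LieClassical.OmegaReindex
open Cfsg.Agent.H858.TOrth (fix mem_fix ND)
open Cfsg.Agent.H883.Sub (perp mem_perp mem_perp' finrank_perp)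
open Cfsg.Agent.H884.El (pre)
open Cfsg.Agent.H833.RS.O73 (finrank_seven nondeg_odd)
open Cfsg.Agent.H160.QSpin (El cj cj_mul IsIso)
open Cfsg.Agent.H160.QDisc (dc dc_cases)
open scoped MatrixGroups Matrix

theorem od_of {q e l : ℕ} (hl : l.Prime) (hnd : ¬ l ∣ q) (he : 0 < e) (h1 : q ^ e ≡ 1 [MOD l])
    (h : ∀ r < e, q ^ r ≡ 1 [MOD l] → r = 0) : Od q e l := by
  refine ⟨hl, hnd, fun m hm => ?_⟩
  have hq : 0 < q := Nat.pos_of_ne_zero (by rintro rfl; exact hnd (dvd_zero _))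
  have h2 : q ^ m ≡ 1 [MOD l] := ((Nat.modEq_iff_dvd' (Nat.one_le_pow _ _ hq)).2 hm).symm
  have h3 : q ^ m = (q ^ e) ^ (m / e) * q ^ (m % e) := by rw [← pow_mul, ← pow_add, Nat.div_add_mod]
  have h4 : q ^ m ≡ q ^ (m % e) [MOD l] := by
    rw [h3]
    have := (h1.pow (m / e)).mul_right (q ^ (m % e))
    simpa using this
  exact Nat.dvd_of_mod_eq_zero (h _ (Nat.mod_lt _ he) (h4.symm.trans h2))

theorem od7 : Od 3 6 7 := od_of (by norm_num) (by norm_num) (by norm_num) (by decide) (by decide)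

theorem od13 : Od 3 3 13 := od_of (by norm_num) (by norm_num) (by norm_num) (by decide) (by decide)

/-- the two types of maximal subgroups -/
def Ty (a b c d : G3) (M : Subgroup G3) : Prop :=
  (Av c M ∧ (Av a M ∨ Av b M ∨ Av d M)) ∨ (Av a M ∧ Av b M ∧ Av d M)

theorem noTwo_of_ty {a b c d : G3} (h : ∀ M : Subgroup G3, IsCoatom M → Ty a b c d M) : NoTwo G3 := by
  have hfin : Finite G3 := Quotient.finite _
  apply noTwo_of_coatom
  intro H K hH hK
  rcases h H hH with ⟨h1, h2⟩ | ⟨h1, h2, h3⟩ <;> rcases h K hK with ⟨k1, k2⟩ | ⟨k1, k2, k3⟩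
  · exact ⟨c, h1, k1⟩
  · rcases h2 with h2 | h2 | h2
    · exact ⟨a, h2, k1⟩
    · exact ⟨b, h2, k2⟩
    · exact ⟨d, h2, k3⟩
  · rcases k2 with k2 | k2 | k2
    · exact ⟨a, h1, k2⟩
    · exact ⟨b, h2, k2⟩
    · exact ⟨d, h3, k2⟩
  · exact ⟨a, h1, k1⟩

theorem not_pow {n r : ℕ} (hr : r.Prime) (h : 3 = n ^ r) : False := by
  have h8 : n ∣ 3 := by
    rw [h]
    exact dvd_pow_self _ hr.ne_zero
  rcases (Nat.dvd_prime Nat.prime_three).1 h8 with h9 | h9
  · rw [h9, one_pow] at h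
    omega
  · rw [h9] at h
    have h10 : 3 ^ 2 ≤ 3 ^ r := Nat.pow_le_pow_right (by norm_num) hr.two_le
    omega

theorem noTwo_three' : NoTwo G3 := by
  have hodd : Odd (Fintype.card K3) := by decide
  have h2 : (2 : K3) ≠ 0 := by decide
  have hc3 : Fintype.card K3 = 3 := ZMod.card 3
  have hn3 : Nat.card K3 = 3 := by rw [Nat.card_eq_fintype_card, hc3]
  have hQ := nondeg_odd (F := K3) h2
  have h7 : finrank K3 (I7 → K3) = 7 := finrank_seven
  obtain ⟨A, hA, hAO, hAl, hAlt⟩ := exists_alt' (F := K3) hodd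
  obtain ⟨a, ha⟩ := exists_A h2 hodd
  obtain ⟨b, hb⟩ := exists_B (F := K3) (p := 3) (f := 1) Nat.prime_three (by norm_num) le_rfl (by rw [hc3, pow_one])
    h2 hodd
  obtain ⟨c, hc⟩ := exists_C h2 hodd (by rw [hc3])
  have hb' := hb
  rw [hc3] at ha hb hc
  norm_num at ha hb hc
  -- the element of order 18
  obtain ⟨Q5, J, s, hD⟩ := El18.exists_DD (dc_cases hQ)
  obtain ⟨e, he⟩ := Cfsg.Agent.H160.QDisc.exists_iso (F := K3) h2 hD.nd7 hQ (by rw [El18.fr7, h7]) hD.dc7
  obtain ⟨d, hd⟩ := hAl _ (hD.el7.cj he)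
  have hdo : orderOf d = 18 := by
    rw [← orderOf_injective A hA d, hd, Cfsg.Agent.H160.QSpin.orderOf_cj, hD.order]
  have hdc : ∀ g : G3, ∃ e' : El18.V7 ≃ₗ[K3] (I7 → K3), IsIso (El18.Q7 Q5 s) (quadOdd 3 K3) e' ∧
      A (g * d * g⁻¹) = cj e' (El18.g7 J) := by
    intro g
    refine ⟨e.trans (A g), fun v => ?_, ?_⟩
    · rw [← he v]
      exact mem_O.1 (hAO g) (e v)
    · rw [map_mul, map_mul, hd]
      ext1 v
      have h8 : A g⁻¹ = (A g)⁻¹ := map_inv A g
      rw [h8]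
      rfl
  -- facts
  have hod6 : Od (Nat.card K3) 6 7 := by rw [hn3]; exact od7
  have hod3 : Od (Nat.card K3) 3 13 := by rw [hn3]; exact od13
  obtain ⟨l4, hl4⟩ := exists_zp (p := 3) (f := 1) (e := 4) Nat.prime_three (by norm_num) le_rfl (by norm_num)
  have hod4 : Od (Nat.card K3) 4 l4 := by rw [hn3]; exact hl4.od le_rfl
  have hl4d : l4 ∣ 15 := by
    have h8 := Zp.dvd_half (k := 2) hl4 (by decide) le_rfl le_rfl
    norm_num at h8
    exact h8.trans (by norm_num)
  have ac : ∀ g : G3, A ((g * a * g⁻¹) ^ 2) ^ 7 = 1 ∧ A ((g * a * g⁻¹) ^ 2) ≠ 1 := fun g =>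
    A_pow hA (by norm_num) (by
      have := pow_order (l := 7) (n := 14) (x := g * a * g⁻¹) (by rw [order_conj, ha]) (by norm_num) (by norm_num)
      simpa using this)
  have cc : ∀ g : G3, A (g * c * g⁻¹) ^ 13 = 1 ∧ A (g * c * g⁻¹) ≠ 1 := fun g =>
    A_pow hA (by norm_num) (by rw [order_conj, hc])
  have bc : ∀ g : G3, A ((g * b * g⁻¹) ^ (15 / l4)) ^ l4 = 1 ∧ A ((g * b * g⁻¹) ^ (15 / l4)) ≠ 1 := fun g =>
    A_pow hA hl4.prime (pow_order (by rw [order_conj, hb]) (by norm_num) hl4d)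
  apply noTwo_of_ty (a := a) (b := b) (c := c) (d := d)
  intro M hM
  obtain ⟨hmax, hAltM⟩ := hAlt M hM
  rcases hAltM with ⟨W, hW0, hWs, hWM⟩ | ⟨W, hW0, hev, hWn, hWM⟩ | ⟨-, h840⟩ | ⟨F₀, r, hr, hcF⟩ | hres
  · -- totally singular subspaces
    have hAa : Av a M := fun g hg =>
      hW0 (six_ts hQ h7 hod6 (hAO _) (ac g).1 (ac g).2 (hWM _ (M.pow_mem hg 2)) hWs)
    have h8' := ts_finrank (nd_top hQ) (le_top : W ≤ ⊤) hWs
    rw [finrank_top, h7] at h8'
    have h8 : 2 * finrank K3 W ≤ 7 := h8'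
    have h9 : 0 < finrank K3 W := Submodule.one_le_finrank_iff.2 hW0
    by_cases h3 : finrank K3 W = 3
    · right
      refine ⟨hAa, fun g hg => ?_, fun g hg => ?_⟩
      · have h10 : finrank K3 W = 1 :=
          four_ts hQ h7 hod4 (hAO _) (bc g).1 (bc g).2 (hWM _ (M.pow_mem hg _)) hWs hW0
        omega
      · obtain ⟨e', he', h10⟩ := hdc g
        have h11 := hWM _ hg
        rw [h10] at h11
        exact hD.tr_ts he' h3 hWs h11
    · left
      refine ⟨fun g hg => ?_, Or.inl hAa⟩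
      obtain ⟨k, hk⟩ := hod3.step (cc g).1 (hWM _ hg)
      rw [ts_inf hWs (nd_fix hQ (hAO _) (cc g).1 (Cfsg.Agent.H858.TOrth.cast_ne_zero hod3.prime hod3.nd))
        (three_fix hQ h7 h2 hod3 (by decide) (hAO _) (cc g).1 (cc g).2), finrank_bot] at hk
      have hk' : finrank K3 W = 0 + 3 * k := hk
      omega
  · -- nondegenerate subspaces
    by_cases h6 : finrank K3 W = 6
    · by_cases hAc : Av c M
      · left
        refine ⟨hAc, Or.inr (Or.inl fun g hg => ?_)⟩
        have h10 := B_even hodd Nat.prime_three (by norm_num) (by rw [hc3, pow_one]) le_rfl hl4 hA hAO hg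
          (by rw [order_conj, hb']) hWM hWn hev hW0
        omega
      · right
        obtain ⟨g, hg⟩ := not_av hAc
        have h11 := three_six hQ h7 h2 hod3 (by decide) (hAO _) (cc g).1 (cc g).2 (hWM _ hg) h6
        have h12 := card_sing_one (by norm_num) (hAO _) (cc g).1 (hWM _ hg) h11
        have h13 := card_sub_six h2 hWn h6
        refine ⟨fun x hx => ?_, fun x hx => ?_, fun x hx => ?_⟩
        · obtain ⟨-, h0⟩ := six_even h7 hod6 (ac x).1 (ac x).2 (hWM _ (M.pow_mem hx 2)) hev hW0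
          have h14 := card_sing_one (by norm_num) (hAO _) (ac x).1 (hWM _ (M.pow_mem hx 2)) h0
          exact no_both (q := Nat.card K3) (by rw [hn3]; norm_num) hod6 hod3 (by rw [hn3]; norm_num) (by decide)
            h14 h12 h13
        · have h10 := B_even hodd Nat.prime_three (by norm_num) (by rw [hc3, pow_one]) le_rfl hl4 hA hAO hx
            (by rw [order_conj, hb']) hWM hWn hev hW0
          omega
        · obtain ⟨e', he', h10⟩ := hdc x
          have h14 := hWM _ hx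
          rw [h10] at h14
          have h15 : Nat.card {v : I7 → K3 | v ∈ W ∧ quadOdd 3 K3 v = 0} + 27 = 252 := hD.tr_plus he' h6 hWn h14
          have h16 : Nat.card {v : I7 → K3 | v ∈ W ∧ quadOdd 3 K3 v = 0} % 13 = 1 % 13 := h12
          omega
    · left
      refine ⟨fun g hg => ?_, Or.inl fun g hg => ?_⟩
      · have h8 : finrank K3 W ≠ 2 ∧ finrank K3 W ≠ 4 :=
          three_even hQ h7 h2 hod3 (by decide) (hAO _) (cc g).1 (cc g).2 (hWM _ hg) hWn
        obtain ⟨k2, k4⟩ := h8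
        have hev' : Even (finrank K3 W) := hev
        have h9 : 0 < finrank K3 W := Submodule.one_le_finrank_iff.2 hW0
        have h10 : finrank K3 W ≤ 7 := by rw [← h7]; exact Submodule.finrank_le _
        obtain ⟨t, ht⟩ := hev'
        omega
      · exact h6 (six_even h7 hod6 (ac g).1 (ac g).2 (hWM _ (M.pow_mem hg 2)) hev hW0).1
  · -- the frame
    left
    refine ⟨fun g hg => ?_, Or.inr (Or.inr fun g hg => ?_)⟩
    · have h8 := orderOf_dvd_of_pow_eq_one (h840 _ hg)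
      rw [order_conj, hc] at h8
      revert h8
      decide
    · have h8 := orderOf_dvd_of_pow_eq_one (h840 _ hg)
      rw [order_conj, hdo] at h8
      revert h8
      decide
  · -- subfields
    exfalso
    rw [hc3] at hcF
    obtain ⟨n, hn⟩ : ∃ n, n = Nat.card F₀ := ⟨_, rfl⟩
    rw [← hn] at hcF
    exact not_pow hr hcF
  · -- the residual class
    rcases res_three hmax hres with h8 | h8
    · left
      refine ⟨fun g hg => ?_, Or.inr (Or.inr fun g hg => ?_)⟩
      · exact (h8 _ hg).1 (by rw [order_conj, hc])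
      · exact (h8 _ hg).2 (by rw [order_conj, hdo])
    · right
      refine ⟨fun g hg => ?_, fun g hg => ?_, fun g hg => ?_⟩
      · exact (h8 _ hg).1 (by rw [order_conj, ha])
      · exact (h8 _ hg).2.1 (by rw [order_conj, hb])
      · exact (h8 _ hg).2.2 (by rw [order_conj, hdo])

/-- **`Ω₇(3)`** -/
theorem noTwo_three : NoTwo (POmega K3 (quadFormOdd 3 K3)) := by
  rw [← coe_quadOdd]
  exact noTwo_three'

/-- **`Ω₇(q)`** -/
theorem noTwo_seven {F : Type} [Field F] [Fintype F] (hodd : Odd (Fintype.card F)) :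
    NoTwo (POmega F (quadFormOdd 3 F)) := by
  rcases le_or_gt 5 (Fintype.card F) with h5 | h5
  · exact noTwo_big hodd h5
  · have h1 : 1 < Fintype.card F := Fintype.one_lt_card
    have hF : Fintype.card F = 3 := by
      obtain ⟨k, hk⟩ := hodd
      omega
    obtain ⟨e⟩ := Cfsg.Agent.UGT.U2.Rec.Congr.nonempty_POmegaOdd (ZMod.ringEquivOfPrime F Nat.prime_three hF) 3
    exact noTwo_three.congr e

end Cfsg.Agent.H327.COV
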